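import Cfsg.Agent.H383.Cov.PlusC
import Cfsg.Agent.H558.Cov.OgO
import Cfsg.Agent.H906.Cov.Num

/-!
# S2499: the groups `PΩ⁺_{2m}(q)`, `m ≥ 5` (helper383, task COV-OPLUS)

`noTwo_plus` : `NoTwo (POmega F (quadFormPlus m F))` for `m ≥ 5`, except `q = 2`, `m ≤ 8` and `q ≤ 5`, `m = 5`
(the overgroup theorem S5948 is the hypothesis `hP`).
-/

set_option autoImplicit false
set_option linter.unusedSectionVars false

namespace Cfsg.Agent.H383.Cov

open Module Cfsg Cfsg.Geo
open Cfsg.Agent.LieClassical.OrthCore Cfsg.Agent.LieClassical.OrthForms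
open Cfsg.Agent.H278.Cov (Red Ext Num NoTwo)
open Cfsg.Agent.H659.CovCore (S5948Stmt)
open Cfsg.Agent.H689 (Ppd exists_ppd)
open scoped MatrixGroups Matrix

variable {F : Type} [Field F] [Fintype F]

theorem isNondeg {ι : Type} {Q : QuadraticForm F (ι → F)} (hQ : Nondeg Q) : IsNondegenerateQuadraticForm ⇑Q := by
  refine ⟨fun c v => ?_, ⟨?_, ?_, ?_, ?_⟩, ?_⟩
  · rw [QuadraticMap.map_smul, smul_eq_mul, pow_two]
  · intro x y v
    exact QuadraticMap.polar_add_left Q x y v
  · intro c x v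
    rw [QuadraticMap.polar_smul_left, smul_eq_mul]
  · intro v x y
    exact QuadraticMap.polar_add_right Q v x y
  · intro c v x
    rw [QuadraticMap.polar_smul_right, smul_eq_mul]
  · intro v hv
    have h1 : ∃ y, QuadraticMap.polar Q v y ≠ 0 := by
      by_contra hcon
      push Not at hcon
      exact hv (hQ v hcon)
    obtain ⟨y, hy⟩ := h1
    exact ⟨⟨y, by rwa [QuadraticMap.polar_comm]⟩, y, hy⟩

/-- the data of an element `C` -/
def HasC (F : Type) [Field F] [Fintype F] (m : ℕ) (S : Set ℕ) : Prop :=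
  ∃ C : GL (Fin m ⊕ Fin m) F, C ∈ omegaGL ⇑(plusForm m F) ∧ Odd (orderOf C) ∧
      (∃ P : Polynomial F, Odd (finrank F (LinearMap.ker (Matrix.toLin'
        (Polynomial.aeval (C : Matrix (Fin m ⊕ Fin m) (Fin m ⊕ Fin m) F) P))))) ∧ Dims C S

theorem core (hP : S5948Stmt.{0}) {m a e b f N : ℕ} {S : Set ℕ} (hm : a + e = m) (hm' : b + f = m) (he : 1 ≤ e)
    (hf : 1 ≤ f) (hab : a < b) (ha : m < 2 * a) (h10 : 5 ≤ m) (hpar : Even a ∧ Odd b ∨ Odd a ∧ Even b)
    (hMa : ∃ M, Num (Fintype.card F) (2 * m) (2 * a) M) (hMb : ∃ M, Num (Fintype.card F) (2 * m) (2 * b) M)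
    (hN : N ∣ Fintype.card F ^ e + 1) (hNo : Odd N) (hN1 : ∀ j, 1 ≤ j → j < 2 * e → ¬ N ∣ Fintype.card F ^ j - 1)
    (hga : ∀ r : ℕ, r.Prime → r ∣ Nat.gcd (2 * m) (2 * a) → r = 2)
    (hgb : ∀ r : ℕ, r.Prime → r ∣ Nat.gcd (2 * m) (2 * b) → r = 2)
    (hC : HasC F m S) (hS1 : 2 * e ∉ S) (hS2 : 2 * a ∉ S)
    (hS3 : ∀ d, 0 < d → d ≤ 2 * f → d ∉ S) (hS4 : ∀ d, 2 * b ≤ d → d < 2 * m → d ∉ S) :
    NoTwo (POmega F (quadFormPlus m F)) := by
  obtain ⟨M, hM⟩ := hMa
  obtain ⟨M', hM'⟩ := hMb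
  have hc : M.Coprime N := by
    have h1 := hM.prim (2 * e) (by omega) (by omega)
    refine Nat.Coprime.coprime_dvd_right (hN.trans ?_) h1
    have h2 : Fintype.card F ^ (2 * e) - 1 = (Fintype.card F ^ e + 1) * (Fintype.card F ^ e - 1) := by
      have := Nat.sq_sub_sq (Fintype.card F ^ e) 1
      rw [one_pow, ← pow_mul, mul_comm e 2] at this
      exact this
    rw [h2]
    exact dvd_mul_right _ _
  obtain ⟨A, hA, ⟨i, hAi⟩, dA⟩ := exists_A hm (by omega) (by omega) (by omega) hM hN hNo hN1 hc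
  obtain ⟨B, hB, ⟨j, hBj⟩, dB⟩ := exists_B hm' (by omega) (by omega) (by omega) hM'
  obtain ⟨C, hC, hCo, ⟨P, hker⟩, dC⟩ := hC
  have hQ : IsNondegenerateQuadraticForm ⇑(plusForm m F) := isNondeg (sg_plus m).nondeg
  have hne : Nonempty (Fin m ⊕ Fin m) := ⟨Sum.inl ⟨0, by omega⟩⟩
  have og : OgO ⇑(plusForm m F) := fun k H hle hne g hg hn =>
    Cfsg.Agent.H558.Cov.og_o hP hQ hle hne hg hn
  have key : NoTwo (Omega F ⇑(plusForm m F)) := by
    refine noTwo_of_data hQ og hA hB hC (by omega) (by omega) hpar (by rw [card_ix]; exact hga)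
      (by rw [card_ix]; exact hgb) hAi hBj dA dB dC ?_ ?_ ?_ hCo P hker
    · intro d hd0 hd1 h1 h2
      rw [card_ix] at hd1
      simp only [Set.mem_insert_iff, Set.mem_singleton_iff, Set.mem_ofPred_eq] at h1 h2
      omega
    · intro d hd0 hd1 h1 h2
      rw [card_ix] at hd1
      simp only [Set.mem_insert_iff, Set.mem_singleton_iff] at h1
      rcases h1 with rfl | rfl | rfl | rfl
      · omega
      · exact hS1 h2
      · exact hS2 h2
      · omega
    · intro d hd0 hd1 h1 h2
      rw [card_ix] at hd1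
      rw [Set.mem_ofPred_eq] at h1
      rcases h1 with h1 | h1
      · exact hS3 d hd0 h1 h2
      · exact hS4 d h1 hd1 h2
  rw [coe_plusForm] at key
  exact key.of_surjective (QuotientGroup.mk' _) (QuotientGroup.mk'_surjective _)

theorem two_of_dvd {r m a e k : ℕ} (hr : r.Prime) (hm : a + e = m) (he : 2 * e ∣ 2 ^ k)
    (h : r ∣ Nat.gcd (2 * m) (2 * a)) : r = 2 := by
  have h1 := h.trans (Nat.gcd_dvd_left _ _)
  have h2 := h.trans (Nat.gcd_dvd_right _ _)
  have h3 : r ∣ 2 * e := by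
    have h4 := (Nat.dvd_sub h1 h2)
    have h5 : 2 * m - 2 * a = 2 * e := by omega
    rwa [h5] at h4
  exact (Nat.prime_dvd_prime_iff_eq hr Nat.prime_two).1 (hr.dvd_of_dvd_pow (h3.trans he))

theorem hasC_odd {m : ℕ} (hm : Odd m) (h3 : 3 ≤ m) : HasC F m {d | m ∣ d} := by
  obtain ⟨r, hr⟩ := exists_ppd (q := Fintype.card F) Fintype.one_lt_card h3 (by
    rintro ⟨-, rfl⟩
    exact absurd hm (by decide))
  exact exists_C1 hm h3 hr

theorem hasC_even {m c : ℕ} (hm : c + 3 = m) (hc : Odd c) (h3 : 5 ≤ c) :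
    HasC F m {d | ∃ s t : ℕ, s ≤ 2 ∧ t ≤ 2 ∧ d = c * s + 3 * t} := by
  obtain ⟨r, hr⟩ := exists_ppd (q := Fintype.card F) (k := c) Fintype.one_lt_card (by omega) (by
    rintro ⟨-, rfl⟩
    exact absurd hc (by decide))
  obtain ⟨s, hs⟩ := exists_ppd (q := Fintype.card F) (k := 3) Fintype.one_lt_card le_rfl (by
    rintro ⟨-, h⟩
    exact absurd h (by decide))
  exact exists_C2 hm (by omega) le_rfl hc hr hs (by omega)

theorem hasC_six (hq : 3 ≤ Fintype.card F) : HasC F 6 {d | 3 ∣ d} := by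
  obtain ⟨r, hr⟩ := exists_ppd (q := Fintype.card F) (k := 3) Fintype.one_lt_card le_rfl (by
    rintro ⟨-, h⟩
    exact absurd h (by decide))
  have hr3 := hr.two_lt le_rfl
  set q := Fintype.card F with hqd
  have hN : q ^ 3 - 1 = (q - 1) * (q ^ 2 + q + 1) := by
    obtain ⟨k, hk⟩ : ∃ k, q = k + 1 := ⟨q - 1, by omega⟩
    rw [hk]
    have h1 : (k + 1) ^ 3 = 1 + k * ((k + 1) ^ 2 + (k + 1) + 1) := by ring
    rw [h1, Nat.add_sub_cancel_left, Nat.add_sub_cancel]
  have hrN : r ∣ q ^ 2 + q + 1 := by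
    have h1 := (hr.iff 3).2 dvd_rfl
    rw [hN] at h1
    refine (hr.prime.dvd_mul.1 h1).resolve_left fun h2 => ?_
    have h3 := (hr.iff 1).1 (by rwa [pow_one])
    exact absurd h3 (by decide)
  have hodd : Odd (q ^ 2 + q + 1) := by
    have h1 : Even (q * (q + 1)) := Nat.even_mul_succ_self q
    have h2 : q ^ 2 + q + 1 = q * (q + 1) + 1 := by ring
    rw [h2]
    exact h1.add_one
  have hlt : q + 3 < q ^ 2 + q + 1 := by nlinarith
  refine exists_C3 (N := q ^ 2 + q + 1) (j := 2) (m := 6) (c := 3) rfl le_rfl (by decide) hr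
    (by rw [hN]; exact dvd_mul_left _ _) hodd hrN (fun h => ?_) ?_ ?_
  · have := Nat.le_of_dvd (by norm_num) h
    omega
  · intro i hi h
    have h0 := h.symm.dvd
    interval_cases i
    · rw [pow_zero] at h
      have h1 := Nat.ModEq.eq_of_lt_of_lt h (by omega) (by omega)
      omega
    · rw [pow_one] at h
      have h1 := Nat.ModEq.eq_of_lt_of_lt h (by omega) (by omega)
      omega
    · have h2 : 2 + (q ^ 2 + q + 1) ≡ q ^ 2 [MOD q ^ 2 + q + 1] := by
        have h3 : 2 + (q ^ 2 + q + 1) ≡ 2 + 0 [MOD q ^ 2 + q + 1] := Nat.ModEq.add_left 2 (by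
          exact (Nat.modEq_zero_iff_dvd.2 dvd_rfl))
        exact h3.trans h.symm
      have h4 := (Nat.modEq_iff_dvd' (by omega : q ^ 2 ≤ 2 + (q ^ 2 + q + 1))).1 h2.symm
      have h5 : 2 + (q ^ 2 + q + 1) - q ^ 2 = q + 3 := by omega
      rw [h5] at h4
      have h6 := Nat.le_of_dvd (by omega) h4
      omega
  · intro i hi h
    interval_cases i
    · have := Nat.le_of_dvd (by positivity) h
      rw [pow_zero] at this
      omega
    · have := Nat.le_of_dvd (by positivity) h
      rw [pow_one] at this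
      omega
    · have h4 : q ^ 2 + q + 1 ∣ (q ^ 2 + q + 1) - (q ^ 2 + 2) := Nat.dvd_sub dvd_rfl h
      have h5 : (q ^ 2 + q + 1) - (q ^ 2 + 2) = q - 1 := by omega
      rw [h5] at h4
      have h6 := Nat.le_of_dvd (by omega) h4
      omega

theorem hasC_ten (hq : Fintype.card F = 2) : HasC F 10 {d | 5 ∣ d} := by
  have hr : Ppd (Fintype.card F) 5 31 := by
    obtain ⟨r, hr⟩ := exists_ppd (q := Fintype.card F) (k := 5) Fintype.one_lt_card (by norm_num) (by
      rintro ⟨-, h⟩
      exact absurd h (by decide))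
    have h1 := (hr.iff 5).2 dvd_rfl
    rw [hq] at h1
    have h2 : r = 31 := (Nat.prime_dvd_prime_iff_eq hr.prime (by norm_num)).1 (by simpa using h1)
    rwa [← h2]
  refine exists_C3 (N := 31) (j := 3) (m := 10) (c := 5) rfl (by norm_num) (by decide) hr (by rw [hq]; norm_num)
    (by decide) dvd_rfl (by norm_num) ?_ ?_
  · rw [hq]; decide
  · rw [hq]; decide

/-- **COV-OPLUS.** -/
theorem noTwo_plus (hP : S5948Stmt.{0}) {m : ℕ} (hm : 5 ≤ m) (h2 : Fintype.card F = 2 → 9 ≤ m)
    (h5 : m = 5 → 7 ≤ Fintype.card F) : NoTwo (POmega F (quadFormPlus m F)) := by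
  have hq : 2 ≤ Fintype.card F := Fintype.one_lt_card
  have hpp : IsPrimePow (Fintype.card F) := Fintype.isPrimePow_card_of_field
  by_cases hx : Fintype.card F = 2 ∧ m = 10
  · obtain ⟨hq2, rfl⟩ := hx
    refine core hP (a := 7) (e := 3) (b := 8) (f := 2) (N := 9) rfl rfl (by norm_num) (by norm_num) (by norm_num)
      (by norm_num) (by norm_num) (Or.inr ⟨by decide, by decide⟩)
      (H906.Cov.exists_num hpp (by norm_num) (by norm_num) (by norm_num) (by norm_num) (by norm_num))
      (H906.Cov.exists_num hpp (by norm_num) (by norm_num) (by norm_num) (by norm_num) (by norm_num))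
      (by rw [hq2]; norm_num) (by decide) ?_ ?_ ?_ (hasC_ten hq2) ?_ ?_ ?_ ?_
    · intro j hj hj6
      rw [hq2]
      interval_cases j <;> decide
    · intro r hr h
      exact (Nat.prime_dvd_prime_iff_eq hr Nat.prime_two).1 (by simpa using h)
    · intro r hr h
      exact two_of_dvd (k := 2) hr (a := 8) (e := 2) rfl (by norm_num) h
    · rw [Set.mem_ofPred_eq]; norm_num
    · rw [Set.mem_ofPred_eq]; norm_num
    · intro d h0 h1
      rw [Set.mem_ofPred_eq]
      omega
    · intro d h0 h1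
      rw [Set.mem_ofPred_eq]
      omega
  by_cases hx11 : Fintype.card F = 2 ∧ m = 11
  · obtain ⟨hq2, rfl⟩ := hx11
    refine core hP (a := 7) (e := 4) (b := 8) (f := 3) (N := 17) rfl rfl (by norm_num) (by norm_num) (by norm_num)
      (by norm_num) (by norm_num) (Or.inr ⟨by decide, by decide⟩)
      (H906.Cov.exists_num hpp (by norm_num) (by norm_num) (by norm_num) (by norm_num) (by norm_num))
      (H906.Cov.exists_num hpp (by norm_num) (by norm_num) (by norm_num) (by norm_num) (by norm_num))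
      (by rw [hq2]; norm_num) (by decide) ?_ ?_ ?_ (hasC_odd (by decide) (by norm_num)) ?_ ?_ ?_ ?_
    · intro j hj hj6
      rw [hq2]
      interval_cases j <;> decide
    · intro r hr h
      exact (Nat.prime_dvd_prime_iff_eq hr Nat.prime_two).1 (by simpa using h)
    · intro r hr h
      exact (Nat.prime_dvd_prime_iff_eq hr Nat.prime_two).1 (by simpa using h)
    · rw [Set.mem_ofPred_eq]; norm_num
    · rw [Set.mem_ofPred_eq]; norm_num
    · intro d h0 h1
      rw [Set.mem_ofPred_eq]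
      omega
    · intro d h0 h1
      rw [Set.mem_ofPred_eq]
      omega
  by_cases hx12 : Fintype.card F = 2 ∧ m = 12
  · obtain ⟨hq2, rfl⟩ := hx12
    refine core hP (a := 8) (e := 4) (b := 11) (f := 1) (N := 17) rfl rfl (by norm_num) (by norm_num) (by norm_num)
      (by norm_num) (by norm_num) (Or.inl ⟨by decide, by decide⟩)
      (H906.Cov.exists_num hpp (by norm_num) (by norm_num) (by norm_num) (by norm_num) (by norm_num))
      (H906.Cov.exists_num hpp (by norm_num) (by norm_num) (by norm_num) (by norm_num) (by norm_num))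
      (by rw [hq2]; norm_num) (by decide) ?_ ?_ ?_ (hasC_even (c := 9) rfl (by decide) (by norm_num)) ?_ ?_ ?_ ?_
    · intro j hj hj6
      rw [hq2]
      interval_cases j <;> decide
    · intro r hr h
      exact two_of_dvd (k := 3) hr (a := 8) (e := 4) rfl (by norm_num) h
    · intro r hr h
      exact two_of_dvd (k := 1) hr (a := 11) (e := 1) rfl (by norm_num) h
    · rintro ⟨s, t, hs, ht, h⟩
      omega
    · rintro ⟨s, t, hs, ht, h⟩
      omega
    · rintro d h0 h1 ⟨s, t, hs, ht, h⟩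
      omega
    · rintro d h0 h1 ⟨s, t, hs, ht, h⟩
      omega
  -- the general case
  obtain ⟨l, hl⟩ := exists_ppd (q := Fintype.card F) (k := 4) hq (by norm_num) (by
    rintro ⟨-, h⟩
    exact absurd h (by decide))
  have hl2 := hl.two_lt (by norm_num)
  have hld : l ∣ Fintype.card F ^ 2 + 1 := by
    have h1 := (hl.iff 4).2 dvd_rfl
    have h3 : Fintype.card F ^ 4 - 1 = (Fintype.card F ^ 2 + 1) * (Fintype.card F ^ 2 - 1) := by
      have := Nat.sq_sub_sq (Fintype.card F ^ 2) 1
      rw [one_pow, ← pow_mul] at this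
      exact this
    rw [h3] at h1
    refine (hl.prime.dvd_mul.1 h1).resolve_right fun h4 => ?_
    exact absurd ((hl.iff 2).1 h4) (by decide)
  have hparity : Even (m - 2) ∧ Odd (m - 1) ∨ Odd (m - 2) ∧ Even (m - 1) := by
    rcases Nat.even_or_odd m with ⟨k, hk⟩ | ⟨k, hk⟩
    · left; exact ⟨⟨k - 1, by omega⟩, ⟨k - 1, by omega⟩⟩
    · right; exact ⟨⟨k - 1, by omega⟩, ⟨k, by omega⟩⟩
  have hC : ∃ S : Set ℕ, HasC F m S ∧ 2 * 2 ∉ S ∧ 2 * (m - 2) ∉ S ∧ (∀ d, 0 < d → d ≤ 2 * 1 → d ∉ S) ∧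
      ∀ d, 2 * (m - 1) ≤ d → d < 2 * m → d ∉ S := by
    rcases Nat.even_or_odd m with hme | hmo
    · by_cases h6 : m = 6
      · subst h6
        refine ⟨_, hasC_six (by omega), ?_, ?_, ?_, ?_⟩
        · rw [Set.mem_ofPred_eq]; norm_num
        · rw [Set.mem_ofPred_eq]; norm_num
        · intro d h0 h1
          rw [Set.mem_ofPred_eq]
          omega
        · intro d h0 h1
          rw [Set.mem_ofPred_eq]
          omega
      · obtain ⟨k, hk⟩ := hme
        refine ⟨_, hasC_even (c := m - 3) (by omega) ⟨k - 2, by omega⟩ (by omega), ?_, ?_, ?_, ?_⟩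
        · rintro ⟨s, t, hs, ht, h⟩
          interval_cases s <;> omega
        · rintro ⟨s, t, hs, ht, h⟩
          interval_cases s <;> omega
        · rintro d h0 h1 ⟨s, t, hs, ht, h⟩
          interval_cases s <;> omega
        · rintro d h0 h1 ⟨s, t, hs, ht, h⟩
          interval_cases s <;> omega
    · refine ⟨_, hasC_odd hmo (by omega), ?_, ?_, ?_, ?_⟩
      · rw [Set.mem_ofPred_eq]
        intro h
        have := Nat.le_of_dvd (by norm_num) h
        omega
      · rw [Set.mem_ofPred_eq]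
        rintro ⟨k, hk⟩
        rcases Nat.lt_or_ge k 2 with h | h
        · interval_cases k <;> omega
        · have : m * 2 ≤ m * k := Nat.mul_le_mul_left m h
          omega
      · intro d h0 h1
        rw [Set.mem_ofPred_eq]
        intro h
        have := Nat.le_of_dvd h0 h
        omega
      · intro d h0 h1
        rw [Set.mem_ofPred_eq]
        rintro ⟨k, hk⟩
        rcases Nat.lt_or_ge k 2 with h | h
        · interval_cases k <;> omega
        · have : m * 2 ≤ m * k := Nat.mul_le_mul_left m h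
          omega
  obtain ⟨S, hCS, hS1, hS2, hS3, hS4⟩ := hC
  refine core hP (a := m - 2) (e := 2) (b := m - 1) (f := 1) (N := l) (by omega) (by omega) (by norm_num) le_rfl
    (by omega) (by omega) hm hparity
    (H906.Cov.exists_num hpp (by omega) (by omega) (by omega) (fun h => by have := h2 h; omega) (fun h => by
      have := h5 (by omega); omega))
    (H906.Cov.exists_num hpp (by omega) (by omega) (by omega) (fun h => by have := h2 h; omega) (fun h => by omega))
    hld (ppd_odd hl (by norm_num)) ?_ ?_ ?_ hCS hS1 hS2 hS3 hS4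
  · intro j hj hj4 hd
    have := Nat.le_of_dvd hj ((hl.iff j).1 hd)
    omega
  · intro r hr h
    exact two_of_dvd (k := 2) hr (a := m - 2) (e := 2) (by omega) (by norm_num) h
  · intro r hr h
    exact two_of_dvd (k := 1) hr (a := m - 1) (e := 1) (by omega) (by norm_num) h

end Cfsg.Agent.H383.Cov
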