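import Cfsg.Agent.H383.Cov.Field
import Cfsg.Agent.H383.Cov.Inv

/-!
# S2499, orthogonal families: the parity lemma (helper383)

`H` an irreducible group of isometries normalising a field `E` of matrices of degree 2.  If `H` contains an element `x` of
odd order dividing `q ^ a + 1` with `range (x - 1)` of dimension `2 a` (irreducible), then
`b (e u, v) = b (u, e ^ (q ^ a) v)` for all `e ∈ E` (`adj_of_mem`).  So `H` cannot contain two such elements for numbers
`a` even, `b` odd (`parity`).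
-/

set_option autoImplicit false
set_option linter.unusedSectionVars false

namespace Cfsg.Agent.H383.Cov

open Cfsg Cfsg.Geo Module
open Cfsg.Agent.H907 (isField_of card_K)
open Cfsg.Agent.H278.Cov (Red Ext Num)
open scoped MatrixGroups Matrix

universe u

variable {ι : Type} [Fintype ι] [DecidableEq ι] {F : Type u} [Field F] [Finite F]

/-- the element `x` has order `M` prime to `q`, `q ^ i - 1` (`i < k`), and `range (x - 1)` has dimension `k` -/
structure Blk (k : ℕ) (x : GL ι F) : Prop where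
  copq : (orderOf x).Coprime (Nat.card F)
  cop : ∀ i, 1 ≤ i → i < k → (orderOf x).Coprime (Nat.card F ^ i - 1)
  rk : finrank F (LinearMap.range (Matrix.toLin' (x : Matrix ι ι F) - 1)) = k

theorem toLin_pow (x : GL ι F) (n : ℕ) : Matrix.toLin' (x : Matrix ι ι F) ^ n = Matrix.toLin' ((x ^ n : GL ι F) : Matrix ι ι F) := by
  rw [Units.val_pow_eq_pow_val, Matrix.toLin'_pow]

theorem toLin_pow_orderOf (x : GL ι F) : Matrix.toLin' (x : Matrix ι ι F) ^ orderOf x = 1 := by
  rw [toLin_pow, pow_orderOf_eq_one, Units.val_one, Matrix.toLin'_one]; rfl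

theorem toLin_conj (g x : GL ι F) : Matrix.toLin' ((g * x * g⁻¹ : GL ι F) : Matrix ι ι F) =
    (Matrix.toLin' (g : Matrix ι ι F)) * Matrix.toLin' (x : Matrix ι ι F) *
      Matrix.toLin' ((g⁻¹ : GL ι F) : Matrix ι ι F) := by
  rw [Units.val_mul, Units.val_mul, Matrix.toLin'_mul, Matrix.toLin'_mul]
  rfl

/-- conjugation by an element of `GL` as a linear equivalence -/
def eqv (g : GL ι F) : (ι → F) ≃ₗ[F] (ι → F) where
  toFun := Matrix.toLin' (g : Matrix ι ι F)
  map_add' := map_add _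
  map_smul' := map_smul _
  invFun := Matrix.toLin' ((g⁻¹ : GL ι F) : Matrix ι ι F)
  left_inv v := by
    rw [Matrix.toLin'_apply, Matrix.toLin'_apply, Matrix.mulVec_mulVec, ← Units.val_mul, inv_mul_cancel, Units.val_one,
      Matrix.one_mulVec]
  right_inv v := by
    rw [Matrix.toLin'_apply, Matrix.toLin'_apply, Matrix.mulVec_mulVec, ← Units.val_mul, mul_inv_cancel, Units.val_one,
      Matrix.one_mulVec]

theorem eqv_apply (g : GL ι F) (v : ι → F) : eqv g v = (g : Matrix ι ι F) *ᵥ v := rfl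

theorem eqv_symm_apply (g : GL ι F) (v : ι → F) : (eqv g).symm v = ((g⁻¹ : GL ι F) : Matrix ι ι F) *ᵥ v := rfl

theorem orderOf_conj (g x : GL ι F) : orderOf (g * x * g⁻¹) = orderOf x :=
  orderOf_injective (MulAut.conj g).toMonoidHom (MulAut.conj g).injective x

theorem Blk.conj {k : ℕ} {x : GL ι F} (h : Blk k x) (g : GL ι F) : Blk k (g * x * g⁻¹) := by
  refine ⟨by rw [orderOf_conj]; exact h.copq, fun i hi hk => by rw [orderOf_conj]; exact h.cop i hi hk, ?_⟩
  rw [← h.rk, toLin_conj]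
  have h1 : LinearMap.range (Matrix.toLin' (g : Matrix ι ι F) * Matrix.toLin' (x : Matrix ι ι F) *
      Matrix.toLin' ((g⁻¹ : GL ι F) : Matrix ι ι F) - 1) =
      (LinearMap.range (Matrix.toLin' (x : Matrix ι ι F) - 1)).map (eqv g : (ι → F) →ₗ[F] (ι → F)) := by
    have h2 : Matrix.toLin' (g : Matrix ι ι F) * Matrix.toLin' (x : Matrix ι ι F) *
      Matrix.toLin' ((g⁻¹ : GL ι F) : Matrix ι ι F) - 1 =
        (eqv g : (ι → F) →ₗ[F] (ι → F)) ∘ₗ (Matrix.toLin' (x : Matrix ι ι F) - 1) ∘ₗ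
          ((eqv g).symm : (ι → F) →ₗ[F] (ι → F)) := by
      apply LinearMap.ext
      intro v
      change (g : Matrix ι ι F) *ᵥ ((x : Matrix ι ι F) *ᵥ (((g⁻¹ : GL ι F) : Matrix ι ι F) *ᵥ v)) - v =
        (g : Matrix ι ι F) *ᵥ ((x : Matrix ι ι F) *ᵥ (((g⁻¹ : GL ι F) : Matrix ι ι F) *ᵥ v) -
          (((g⁻¹ : GL ι F) : Matrix ι ι F) *ᵥ v))
      rw [Matrix.mulVec_sub]
      congr 1
      rw [Matrix.mulVec_mulVec, ← Units.val_mul, mul_inv_cancel, Units.val_one, Matrix.one_mulVec]
    rw [h2, LinearMap.range_comp, LinearMap.range_comp, LinearEquiv.range, Submodule.map_top]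
  rw [h1]
  exact LinearEquiv.finrank_map_eq (eqv g) _

/-- invariant subspaces of a block element -/
theorem Blk.le_or_le {k : ℕ} {x : GL ι F} (h : Blk k x) {W : Submodule F (ι → F)}
    (hW : ∀ w ∈ W, (x : Matrix ι ι F) *ᵥ w ∈ W) :
    W ≤ LinearMap.ker (Matrix.toLin' (x : Matrix ι ι F) - 1) ∨ LinearMap.range (Matrix.toLin' (x : Matrix ι ι F) - 1) ≤ W :=
  Cov.le_or_le (toLin_pow_orderOf x) h.copq h.cop h.rk hW

theorem Blk.finrank_cases {k : ℕ} {x : GL ι F} (h : Blk k x) {W : Submodule F (ι → F)}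
    (hW : ∀ w ∈ W, (x : Matrix ι ι F) *ᵥ w ∈ W) : finrank F W + k ≤ Fintype.card ι ∨ k ≤ finrank F W := by
  have h1 := Cov.finrank_cases (toLin_pow_orderOf x) h.copq h.cop h.rk hW
  rwa [Module.finrank_fintype_fun_eq_card] at h1

section adj

variable {Q : (ι → F) → F}

theorem polar_isom {x : GL ι F} (hx : x ∈ isometryGroup F Q) (u v : ι → F) :
    QuadraticMap.polar Q ((x : Matrix ι ι F) *ᵥ u) ((x : Matrix ι ι F) *ᵥ v) = QuadraticMap.polar Q u v := by
  have h : ∀ v, Q ((x : Matrix ι ι F) *ᵥ v) = Q v := fun v => hx v v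
  rw [QuadraticMap.polar, QuadraticMap.polar, ← Matrix.mulVec_add, h, h, h]

theorem polar_zero_left (hQ : IsNondegenerateQuadraticForm Q) (v : ι → F) : QuadraticMap.polar Q 0 v = 0 := by
  have h := hQ.polar_bilinear.smul_left 0 0 v
  rwa [zero_smul, zero_mul] at h

theorem polar_zero_right (hQ : IsNondegenerateQuadraticForm Q) (v : ι → F) : QuadraticMap.polar Q v 0 = 0 := by
  have h := hQ.polar_bilinear.smul_right 0 v 0
  rwa [zero_smul, zero_mul] at h

theorem polar_sub_left (hQ : IsNondegenerateQuadraticForm Q) (u w v : ι → F) :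
    QuadraticMap.polar Q (u - w) v = QuadraticMap.polar Q u v - QuadraticMap.polar Q w v := by
  have h := hQ.polar_bilinear.add_left (u - w) w v
  rw [sub_add_cancel] at h
  rw [h, add_sub_cancel_right]

/-- the adjoint of a polynomial in `x` -/
theorem polar_aeval (hQ : IsNondegenerateQuadraticForm Q) {x : GL ι F} (hx : x ∈ isometryGroup F Q)
    (f : Polynomial F) (u v : ι → F) :
    QuadraticMap.polar Q (Polynomial.aeval (x : Matrix ι ι F) f *ᵥ u) v =
      QuadraticMap.polar Q u (Polynomial.aeval ((x⁻¹ : GL ι F) : Matrix ι ι F) f *ᵥ v) := by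
  induction f using Polynomial.induction_on' with
  | add p r hp hr =>
    rw [map_add, map_add, Matrix.add_mulVec, Matrix.add_mulVec, hQ.polar_bilinear.add_left,
      hQ.polar_bilinear.add_right, hp, hr]
  | monomial n a =>
    have h1 : ∀ y : Matrix ι ι F, Polynomial.aeval y (Polynomial.monomial n a) = a • y ^ n := by
      intro y
      rw [Polynomial.aeval_monomial, Algebra.smul_def]
    rw [h1, h1, Matrix.smul_mulVec, Matrix.smul_mulVec, hQ.polar_bilinear.smul_left, hQ.polar_bilinear.smul_right]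
    congr 1
    rw [← Units.val_pow_eq_pow_val, ← Units.val_pow_eq_pow_val]
    have h2 := polar_isom ((isometryGroup F Q).pow_mem hx n) u (((x⁻¹ ^ n : GL ι F) : Matrix ι ι F) *ᵥ v)
    rw [Matrix.mulVec_mulVec, ← Units.val_mul, inv_pow, mul_inv_cancel, Units.val_one, Matrix.one_mulVec] at h2
    rw [h2, inv_pow]

/-- evaluation at `x ^ (q ^ a)` -/
theorem aeval_pow (x : Matrix ι ι F) (a : ℕ) (f : Polynomial F) :
    Polynomial.aeval (x ^ (Nat.card F ^ a)) f = (Polynomial.aeval x f) ^ (Nat.card F ^ a) := by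
  have := Fintype.ofFinite F
  rw [Nat.card_eq_fintype_card]
  induction a generalizing f with
  | zero => rw [pow_zero, pow_one, pow_one]
  | succ a ih =>
    rw [pow_succ, pow_mul, pow_mul, ← ih]
    rw [← Polynomial.expand_aeval, FiniteField.expand_card, map_pow]

/-- **The adjoint lemma.** -/
theorem adj_of_mem [Nonempty ι] (hQ : IsNondegenerateQuadraticForm Q) {H : Subgroup (GL ι F)}
    (hH : H ≤ isometryGroup F Q) (hirr : ¬ Red H) {E : Subalgebra F (Matrix ι ι F)} (hE : IsFieldSubalgebra 2 E)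
    (hN : H ≤ subalgebraNormalizer E) {x : GL ι F} (hx : x ∈ H) {a : ℕ} (ha : 1 ≤ a) (hodd : Odd (orderOf x))
    (hM : orderOf x ∣ Nat.card F ^ a + 1) (hb : Blk (2 * a) x) {e : Matrix ι ι F} (he : e ∈ E) (u v : ι → F) :
    QuadraticMap.polar Q (e *ᵥ u) v = QuadraticMap.polar Q u ((e ^ (Nat.card F ^ a)) *ᵥ v) := by
  have hxQ := hH hx
  have hcomm : ∀ e ∈ E, (x : Matrix ι ι F) * e = e * x := fun e he =>
    comm_of_coprime hE (hN hx) (Nat.coprime_two_right.2 hodd) he
  set X : Matrix ι ι F := (x : Matrix ι ι F) with hX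
  have hXM : Matrix.toLin' X ^ orderOf x = 1 := toLin_pow_orderOf x
  -- `E` preserves `range (x - 1)` and `ker (x - 1)`
  set R : Submodule F (ι → F) := LinearMap.range (Matrix.toLin' X - 1) with hR
  have memR : ∀ w, w ∈ R ↔ ∃ z, X *ᵥ z - z = w := by
    intro w
    rw [hR, LinearMap.mem_range]
    rfl
  have hER : ∀ e ∈ E, ∀ w ∈ R, e *ᵥ w ∈ R := by
    intro e he w hw
    obtain ⟨z, rfl⟩ := (memR w).1 hw
    refine (memR _).2 ⟨e *ᵥ z, ?_⟩
    rw [Matrix.mulVec_sub, Matrix.mulVec_mulVec, Matrix.mulVec_mulVec, hcomm e he]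
  have hEfix : ∀ e ∈ E, ∀ w, X *ᵥ w = w → X *ᵥ (e *ᵥ w) = e *ᵥ w := by
    intro e he w hw
    rw [Matrix.mulVec_mulVec, hcomm e he, ← Matrix.mulVec_mulVec, hw]
  have horth : ∀ w, X *ᵥ w = w → ∀ z ∈ R, QuadraticMap.polar Q z w = 0 := by
    intro w hw z hz
    obtain ⟨z, rfl⟩ := (memR z).1 hz
    rw [polar_sub_left hQ]
    nth_rewrite 1 [← hw]
    rw [polar_isom hxQ, sub_self]
  -- a nonzero vector of `R`
  obtain ⟨v₀, hv₀, hv₀0⟩ : ∃ v₀ ∈ R, v₀ ≠ 0 := by
    by_contra hcon
    push Not at hcon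
    have h1 : R = ⊥ := by rw [Submodule.eq_bot_iff]; exact hcon
    have h2 := hb.rk
    rw [← hX, ← hR, h1, finrank_bot] at h2
    omega
  have hcyc : ∀ w ∈ R, ∃ f : Polynomial F, w = Polynomial.aeval X f *ᵥ v₀ := by
    let C : Submodule F (ι → F) := LinearMap.range
      ({ toFun := fun f : Polynomial F => Polynomial.aeval X f *ᵥ v₀
         map_add' := fun f g => by rw [map_add, Matrix.add_mulVec]
         map_smul' := fun c f => by rw [map_smul, Matrix.smul_mulVec, RingHom.id_apply] } :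
        Polynomial F →ₗ[F] (ι → F))
    have hCinv : ∀ w ∈ C, X *ᵥ w ∈ C := by
      rintro _ ⟨f, rfl⟩
      refine ⟨Polynomial.X * f, ?_⟩
      change Polynomial.aeval X (Polynomial.X * f) *ᵥ v₀ = X *ᵥ (Polynomial.aeval X f *ᵥ v₀)
      rw [map_mul, Polynomial.aeval_X, Matrix.mulVec_mulVec]
    rcases hb.le_or_le hCinv with h | h
    · exfalso
      apply hv₀0
      have h1 : v₀ ∈ C := ⟨1, by
        change Polynomial.aeval X 1 *ᵥ v₀ = v₀
        rw [map_one, Matrix.one_mulVec]⟩
      have h2 := h h1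
      rw [LinearMap.mem_ker] at h2
      obtain ⟨z, hz⟩ := (memR v₀).1 hv₀
      exact eq_zero_of_fix hXM hb.copq (v := z) hz.symm (sub_eq_zero.1 h2)
    · intro w hw
      obtain ⟨f, hf⟩ := h hw
      exact ⟨f, hf.symm⟩
  have hinv : ((x⁻¹ : GL ι F) : Matrix ι ι F) = X ^ (Nat.card F ^ a) := by
    rw [hX, ← Units.val_pow_eq_pow_val]
    congr 1
    rw [inv_eq_iff_mul_eq_one, ← pow_succ']
    exact orderOf_dvd_iff_pow_eq_one.1 hM
  -- the identity on `R`
  have key : ∀ e ∈ E, ∀ u ∈ R, ∀ v, QuadraticMap.polar Q (e *ᵥ u) v =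
      QuadraticMap.polar Q u ((e ^ (Nat.card F ^ a)) *ᵥ v) := by
    intro e he u hu v
    obtain ⟨w, z, hw, hv⟩ := exists_fix hXM hb.copq v
    have hz : X *ᵥ z - z ∈ R := (memR _).2 ⟨z, rfl⟩
    have hw' : X *ᵥ w = w := hw
    have hv' : v = w + (X *ᵥ z - z) := hv
    rw [hv', Matrix.mulVec_add, hQ.polar_bilinear.add_right, hQ.polar_bilinear.add_right,
      horth w hw' _ (hER e he u hu), horth _ (hEfix _ (E.pow_mem he _) w hw') u hu, zero_add, zero_add]
    obtain ⟨f, hf⟩ := hcyc _ (hER e he v₀ hv₀)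
    have hfe : ∀ u ∈ R, Polynomial.aeval X f *ᵥ u = e *ᵥ u := by
      intro u hu
      obtain ⟨g, rfl⟩ := hcyc u hu
      rw [Matrix.mulVec_mulVec, ← map_mul, mul_comm, map_mul, ← Matrix.mulVec_mulVec, ← hf, Matrix.mulVec_mulVec,
        Matrix.mulVec_mulVec, comm_aeval (hcomm e he)]
    have hpow : ∀ n : ℕ, ∀ u ∈ R, (Polynomial.aeval X f) ^ n *ᵥ u = e ^ n *ᵥ u := by
      intro n
      induction n with
      | zero => intro u _; rw [pow_zero, pow_zero]
      | succ n ih =>
        intro u hu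
        rw [pow_succ, pow_succ, ← Matrix.mulVec_mulVec, ← Matrix.mulVec_mulVec, hfe u hu, ih _ (hER e he u hu)]
    rw [← hfe u hu, polar_aeval hQ hxQ, hinv, aeval_pow, hpow _ _ hz]
  -- the subspace of all `u` with this property is `H`-invariant
  let Z : Submodule F (ι → F) :=
    { carrier := {u | ∀ e ∈ E, ∀ v, QuadraticMap.polar Q (e *ᵥ u) v =
        QuadraticMap.polar Q u ((e ^ (Nat.card F ^ a)) *ᵥ v)}
      add_mem' := by
        intro u u' hu hu' e he v
        rw [Matrix.mulVec_add, hQ.polar_bilinear.add_left, hQ.polar_bilinear.add_left, hu e he, hu' e he]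
      zero_mem' := by
        intro e he v
        rw [Matrix.mulVec_zero, polar_zero_left hQ, polar_zero_left hQ]
      smul_mem' := by
        intro c u hu e he v
        rw [Matrix.mulVec_smul, hQ.polar_bilinear.smul_left, hQ.polar_bilinear.smul_left, hu e he] }
  have hZinv : ∀ h ∈ H, ∀ u ∈ Z, (h : Matrix ι ι F) *ᵥ u ∈ Z := by
    intro h hh u hu e he v
    set e' : Matrix ι ι F := ((h⁻¹ : GL ι F) : Matrix ι ι F) * e * (h : Matrix ι ι F) with he'
    have he'E : e' ∈ E := by
      have h1 := (hN (H.inv_mem hh) e).1 he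
      rwa [inv_inv] at h1
    have h2 : e * (h : Matrix ι ι F) = (h : Matrix ι ι F) * e' := by
      rw [he', ← mul_assoc, ← mul_assoc, ← Units.val_mul, mul_inv_cancel, Units.val_one, one_mul]
    have h3 : ∀ n : ℕ, e ^ n * (h : Matrix ι ι F) = (h : Matrix ι ι F) * e' ^ n := by
      intro n
      induction n with
      | zero => rw [pow_zero, pow_zero, one_mul, mul_one]
      | succ n ih => rw [pow_succ, pow_succ, mul_assoc, h2, ← mul_assoc, ih, mul_assoc]
    have h4 := polar_isom (hH hh) (e' *ᵥ u) (((h⁻¹ : GL ι F) : Matrix ι ι F) *ᵥ v)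
    have h5 : (h : Matrix ι ι F) *ᵥ (((h⁻¹ : GL ι F) : Matrix ι ι F) *ᵥ v) = v := by
      rw [Matrix.mulVec_mulVec, ← Units.val_mul, mul_inv_cancel, Units.val_one, Matrix.one_mulVec]
    rw [Matrix.mulVec_mulVec, h2, ← Matrix.mulVec_mulVec]
    nth_rewrite 1 [← h5]
    rw [h4, hu e' he'E, ← polar_isom (hH hh) u, Matrix.mulVec_mulVec, Matrix.mulVec_mulVec, ← h3,
      mul_assoc, ← Units.val_mul, mul_inv_cancel, Units.val_one, mul_one]
  have hZtop : Z = ⊤ := by
    by_contra hne
    apply hirr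
    refine ⟨Z, ?_, hne, fun h hh => ?_⟩
    · intro hbot
      have h1 : v₀ ∈ Z := fun e he v => key e he v₀ hv₀ v
      rw [hbot] at h1
      exact hv₀0 ((Submodule.mem_bot F).1 h1)
    · intro v
      constructor
      · exact fun hv => hZinv h hh v hv
      · intro hv
        have h1 := hZinv h⁻¹ (H.inv_mem hh) _ hv
        change ((h⁻¹ : GL ι F) : Matrix ι ι F) *ᵥ ((h : Matrix ι ι F) *ᵥ v) ∈ Z at h1
        rwa [Matrix.mulVec_mulVec, ← Units.val_mul, inv_mul_cancel, Units.val_one, Matrix.one_mulVec] at h1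
  have h1 : u ∈ Z := by rw [hZtop]; trivial
  exact h1 e he v

/-- in a field of `q²` elements, `e ^ (q ^ a) = e` for `a` even and `e ^ (q ^ a) = e ^ q` for `a` odd -/
theorem pow_of_even [Nonempty ι] {E : Subalgebra F (Matrix ι ι F)} (hE : IsFieldSubalgebra 2 E) {e : Matrix ι ι F}
    (he : e ∈ E) {a : ℕ} (ha : Even a) : e ^ (Nat.card F ^ a) = e := by
  have := Fintype.ofFinite F
  let _ : Field E := (isField_of hE).toField
  have hfin : Finite E := inferInstance
  have := Fintype.ofFinite E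
  have h1 : Fintype.card E = Nat.card F ^ 2 := by
    rw [← Nat.card_eq_fintype_card, card_K hE, Nat.card_eq_fintype_card]
  obtain ⟨k, rfl⟩ := ha
  have h2 : (⟨e, he⟩ : E) ^ (Fintype.card E) ^ k = ⟨e, he⟩ := FiniteField.pow_card_pow k _
  rw [h1, ← pow_mul, two_mul] at h2
  exact congrArg Subtype.val h2

/-- **The parity lemma.** -/
theorem parity [Nonempty ι] (hQ : IsNondegenerateQuadraticForm Q) {H : Subgroup (GL ι F)}
    (hH : H ≤ isometryGroup F Q) (hirr : ¬ Red H) {E : Subalgebra F (Matrix ι ι F)} (hE : IsFieldSubalgebra 2 E)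
    (hN : H ≤ subalgebraNormalizer E) {x y : GL ι F} (hx : x ∈ H) (hy : y ∈ H) {a b : ℕ} (ha : 1 ≤ a) (hb : 1 ≤ b)
    (hae : Even a) (hbo : Odd b) (hox : Odd (orderOf x)) (hoy : Odd (orderOf y))
    (hMx : orderOf x ∣ Nat.card F ^ a + 1) (hMy : orderOf y ∣ Nat.card F ^ b + 1)
    (hbx : Blk (2 * a) x) (hby : Blk (2 * b) y) : False := by
  have := Fintype.ofFinite F
  have key : ∀ e ∈ E, e ^ Nat.card F = e := by
    intro e he
    have h1 : ∀ u v, QuadraticMap.polar Q u (e *ᵥ v) = QuadraticMap.polar Q u ((e ^ Nat.card F) *ᵥ v) := by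
      intro u v
      have h2 := adj_of_mem hQ hH hirr hE hN hx ha hox hMx hbx he u v
      have h3 := adj_of_mem hQ hH hirr hE hN hy hb hoy hMy hby he u v
      rw [h2] at h3
      obtain ⟨k, rfl⟩ := hbo
      rw [pow_of_even hE he hae, pow_succ, pow_mul, pow_of_even hE he (even_two_mul k)] at h3
      exact h3
    apply Matrix.toLin'.injective
    apply LinearMap.ext
    intro v
    rw [Matrix.toLin'_apply, Matrix.toLin'_apply]
    by_contra hne
    obtain ⟨⟨u, hu⟩, -⟩ := hQ.nondegenerate (e ^ Nat.card F *ᵥ v - e *ᵥ v) (sub_ne_zero.2 hne)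
    apply hu
    have h4 := hQ.polar_bilinear.add_right u (e ^ Nat.card F *ᵥ v - e *ᵥ v) (e *ᵥ v)
    rw [sub_add_cancel, h1] at h4
    have h5 : QuadraticMap.polar Q u (e ^ Nat.card F *ᵥ v - e *ᵥ v) + QuadraticMap.polar Q u (e ^ Nat.card F *ᵥ v) =
      0 + QuadraticMap.polar Q u (e ^ Nat.card F *ᵥ v) := by rw [← h4, zero_add]
    exact add_right_cancel h5
  let _ : Field E := (isField_of hE).toField
  have hfin : Finite E := inferInstance
  have := Fintype.ofFinite E
  have h1 : Fintype.card E = Fintype.card F ^ 2 := by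
    rw [← Nat.card_eq_fintype_card, card_K hE]
  classical
  have hq : 1 < Fintype.card F := Fintype.one_lt_card
  have h2 : (Finset.univ : Finset E).card ≤ (Polynomial.X ^ Fintype.card F - Polynomial.X : Polynomial E).natDegree := by
    have hp0 : (Polynomial.X ^ Fintype.card F - Polynomial.X : Polynomial E) ≠ 0 := FiniteField.X_pow_card_sub_X_ne_zero E hq
    have h3 : (Finset.univ : Finset E) ⊆ (Polynomial.X ^ Fintype.card F - Polynomial.X : Polynomial E).roots.toFinset := by
      intro e _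
      rw [Multiset.mem_toFinset, Polynomial.mem_roots hp0, Polynomial.IsRoot.def, Polynomial.eval_sub,
        Polynomial.eval_pow, Polynomial.eval_X, sub_eq_zero]
      apply Subtype.ext
      have := key e e.2
      rwa [Nat.card_eq_fintype_card] at this
    exact (Finset.card_le_card h3).trans ((Multiset.toFinset_card_le _).trans (Polynomial.card_roots' _))
  rw [Finset.card_univ, h1, FiniteField.X_pow_card_sub_X_natDegree_eq E hq] at h2
  nlinarith

end adj

end Cfsg.Agent.H383.Cov
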