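import Cfsg.Agent.H383.Cov.TenEl
import Cfsg.Agent.H900.SU4.Base
import Cfsg.Agent.S2119
import Cfsg.Agent.S0813
import Cfsg.Agent.S0814
import Cfsg.Agent.S0245
import Cfsg.Agent.S0246
import Cfsg.Agent.ClassicalGeometry.PSL2Basic

/-!
# S2499: the residual class of `Ω⁺₁₀(q)` contains no element of order `(q⁵ - 1) / (q - 1)`, `q ≤ 5` (helper383)
-/

set_option autoImplicit false
set_option linter.unusedSectionVars false

namespace Cfsg.Agent.H383.Cov.Ten

open Cfsg Cfsg.Geo
open scoped MatrixGroups Matrix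

/-- the text of S5848 -/
def S5848Stmt : Prop :=
  ∀ {F : Type} [Field F] [Fintype F] (Q : (Fin 10 → F) → F) (_hQ : Cfsg.Geo.IsNondegenerateQuadraticForm Q)
    (_hplus : Cfsg.Geo.IsPlusTypeOn Q ⊤) (H : Subgroup (Matrix.GeneralLinearGroup (Fin 10) F))
    (_hH : Cfsg.Geo.IsMaximalIn (Cfsg.Geo.omegaGL Q) H) (_hS : Cfsg.Geo.InOrthogonalResidualClass H),
    ∃ P : Subgroup (Matrix.GeneralLinearGroup (Fin 10) F), Cfsg.Geo.IsResidualCore H P ∧
    ((Nonempty ((P ⧸ (Cfsg.Geo.scalars (Fin 10) F).subgroupOf P) ≃* Matrix.ProjectiveSpecialLinearGroup (Fin 2) (ZMod 11)) ∧ (Fintype.card F).Prime ∧ Fintype.card F ≠ 3 ∧ (Fintype.card F % 11 = 1 ∨ Fintype.card F % 11 = 3 ∨ Fintype.card F % 11 = 4 ∨ Fintype.card F % 11 = 5 ∨ Fintype.card F % 11 = 9)) ∨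
     (Nonempty ((P ⧸ (Cfsg.Geo.scalars (Fin 10) F).subgroupOf P) ≃* alternatingGroup (Fin 11)) ∧ (Fintype.card F).Prime ∧ Fintype.card F ≠ 3 ∧ (Fintype.card F % 11 = 1 ∨ Fintype.card F % 11 = 3 ∨ Fintype.card F % 11 = 4 ∨ Fintype.card F % 11 = 5 ∨ Fintype.card F % 11 = 9)) ∨
     (Nonempty ((P ⧸ (Cfsg.Geo.scalars (Fin 10) F).subgroupOf P) ≃* alternatingGroup (Fin 12)) ∧ Fintype.card F = 3) ∨
     (Nonempty ((P ⧸ (Cfsg.Geo.scalars (Fin 10) F).subgroupOf P) ≃* Cfsg.PSp 2 F) ∧ Fintype.card F % 4 = 1))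

theorem card_mulAut_alt {n : ℕ} (hn : 4 ≤ n) (h6 : n ≠ 6) : Nat.card (MulAut (alternatingGroup (Fin n))) = n.factorial := by
  rw [← Nat.card_congr (Equiv.ofBijective _ (S2119.result n hn h6)), Nat.card_perm, Nat.card_fin]

theorem card_mulAut_psl : Nat.card (MulAut (Matrix.ProjectiveSpecialLinearGroup (Fin 2) (ZMod 11))) = 1320 := by
  have : Fact (Nat.Prime 11) := ⟨by norm_num⟩
  rw [S0813.result 11 1 le_rfl (by rw [ZMod.card, pow_one]) 2 le_rfl (fun _ => by norm_num), if_pos rfl, one_mul,
    ClassicalGeometry.PSL2Basic.card_PGL2, ZMod.card]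
  norm_num

theorem card_mulAut_psp {F : Type} [Field F] [Fintype F] (h5 : Fintype.card F = 5) :
    Nat.card (MulAut (PSp 2 F)) = 9360000 := by
  have : Fact (Nat.Prime 5) := ⟨by norm_num⟩
  have h1 := S0245.result h5 2
  have h2 := S0246.result h5 2 (by norm_num)
  have h3 := Subgroup.card_mul_index (Subgroup.center ↥(Matrix.symplecticGroup (Fin 2) F))
  rw [h1, h2] at h3
  have h4 : Nat.gcd 2 (5 - 1) * Nat.card (PSp 2 F) = 9360000 := by
    refine Eq.trans h3 ?_
    decide
  rw [S0814.result 5 1 le_rfl (by rw [h5, pow_one]) 2 le_rfl (fun _ => by norm_num), if_neg (by decide), one_mul,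
    mul_one, pow_one, h4]

/-- the residual class -/
theorem residual {F : Type} [Field F] [Fintype F] (hR : S5848Stmt) {Q : (Fin 10 → F) → F}
    (hQ : Cfsg.Geo.IsNondegenerateQuadraticForm Q)
    (hplus : Cfsg.Geo.IsPlusTypeOn Q ⊤) {H : Subgroup (Matrix.GeneralLinearGroup (Fin 10) F)}
    (hH : Cfsg.Geo.IsMaximalIn (Cfsg.Geo.omegaGL Q) H) (hS : Cfsg.Geo.InOrthogonalResidualClass H)
    (hq : Fintype.card F = 3 ∨ Fintype.card F = 4 ∨ Fintype.card F = 5) {x : GL (Fin 10) F} (hx : x ∈ H) {N : ℕ}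
    (hN : N * (Fintype.card F - 1) = Fintype.card F ^ 5 - 1) (ho : orderOf x = N) : False := by
  obtain ⟨P, hP, hcase⟩ := hR Q hQ hplus H hH hS
  have hco : N.Coprime (Fintype.card F - 1) := by
    rcases hq with h | h | h
    · rw [h] at hN ⊢
      have : N = 121 := by omega
      rw [this]; decide
    · rw [h] at hN ⊢
      have : N = 341 := by omega
      rw [this]; decide
    · rw [h] at hN ⊢
      have : N = 781 := by omega
      rw [this]; decide
  have key : N ∣ Nat.card (MulAut (P ⧸ (Cfsg.Geo.scalars (Fin 10) F).subgroupOf P)) := by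
    have h1 := H900.SU4.card_dvd_of_core hP (Subgroup.zpowers x).subtype
      (fun b => (Subgroup.zpowers_le.2 hx) b.2) (fun b hb => by
        have h2 : orderOf b ∣ N := by
          have h0 := orderOf_dvd_natCard b
          rwa [Nat.card_zpowers, ho] at h0
        have h3 : (b : GL (Fin 10) F) ^ (Fintype.card F - 1) = 1 := by
          obtain ⟨c, hc⟩ := hb
          have h4 : c ^ (Fintype.card F - 1) = 1 := by
            have := Classical.decEq F
            rw [← Fintype.card_units]
            exact pow_card_eq_one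
          have hc' : (Units.map (Matrix.scalar (Fin 10) : F →+* Matrix (Fin 10) (Fin 10) F).toMonoidHom) c =
              (b : GL (Fin 10) F) := hc
          rw [← hc', ← map_pow, h4, map_one]
        have h5 : orderOf b ∣ Fintype.card F - 1 := by
          rw [← Subgroup.orderOf_coe]
          exact orderOf_dvd_of_pow_eq_one h3
        exact orderOf_eq_one_iff.1 (Nat.eq_one_of_dvd_coprimes hco h2 h5))
    rwa [Nat.card_zpowers, ho] at h1
  rcases hcase with ⟨⟨e⟩, hp, h3, -⟩ | ⟨⟨e⟩, hp, h3, -⟩ | ⟨⟨e⟩, h3⟩ | ⟨⟨e⟩, h3⟩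
  · have h5 : Fintype.card F = 5 := by
      rcases hq with h | h | h
      · exact absurd h h3
      · rw [h] at hp
        exact absurd hp (by norm_num)
      · exact h
    rw [Nat.card_congr (MulAut.congr e).toEquiv, card_mulAut_psl] at key
    rw [h5] at hN
    have : N = 781 := by omega
    rw [this] at key
    exact absurd key (by norm_num)
  · have h5 : Fintype.card F = 5 := by
      rcases hq with h | h | h
      · exact absurd h h3
      · rw [h] at hp
        exact absurd hp (by norm_num)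
      · exact h
    rw [Nat.card_congr (MulAut.congr e).toEquiv, card_mulAut_alt (by norm_num) (by norm_num)] at key
    rw [h5] at hN
    have : N = 781 := by omega
    rw [this] at key
    exact absurd key (by decide)
  · rw [Nat.card_congr (MulAut.congr e).toEquiv, card_mulAut_alt (by norm_num) (by norm_num)] at key
    rw [h3] at hN
    have : N = 121 := by omega
    rw [this] at key
    exact absurd key (by decide)
  · have h5 : Fintype.card F = 5 := by
      rcases hq with h | h | h <;> rw [h] at h3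
      · omega
      · omega
      · exact h
    rw [Nat.card_congr (MulAut.congr e).toEquiv, card_mulAut_psp h5] at key
    rw [h5] at hN
    have : N = 781 := by omega
    rw [this] at key
    exact absurd key (by norm_num)

end Cfsg.Agent.H383.Cov.Ten
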