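import Cfsg.Agent.H907.FieldSub
import Cfsg.Agent.H278.Cov.ClDefs

/-!
# S2499, families of orthogonal groups: fields of matrices (helper383)

* `comm_of_coprime` : an element of order prime to `r` normalising a field of matrices of degree `r` centralises it;
* `dvd_finrank` : the dimension of an `E`-invariant subspace is divisible by `r`;
* `dvd_ker` : so is the dimension of the kernel of every matrix commuting with `E`.
-/

set_option autoImplicit false
set_option linter.unusedSectionVars false

namespace Cfsg.Agent.H383.Cov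

open Cfsg Cfsg.Geo Module
open Cfsg.Agent.H907 (isField_of card_K)
open scoped MatrixGroups Matrix

variable {ι : Type} [Fintype ι] [DecidableEq ι] {F : Type*} [Field F] {r : ℕ} {E : Subalgebra F (Matrix ι ι F)}

/-- conjugation as an algebra automorphism -/
def conjAlg {g : GL ι F} (hg : g ∈ subalgebraNormalizer E) : E ≃ₐ[F] E where
  toFun k := ⟨(g : Matrix ι ι F) * k * ((g⁻¹ : GL ι F) : Matrix ι ι F), (hg k).1 k.2⟩
  invFun k := ⟨((g⁻¹ : GL ι F) : Matrix ι ι F) * k * (g : Matrix ι ι F), by
    have := ((subalgebraNormalizer E).inv_mem hg k).1 k.2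
    rwa [inv_inv] at this⟩
  left_inv k := by
    apply Subtype.ext
    change ((g⁻¹ : GL ι F) : Matrix ι ι F) * ((g : Matrix ι ι F) * k * ((g⁻¹ : GL ι F) : Matrix ι ι F)) *
      (g : Matrix ι ι F) = k
    rw [mul_assoc (g : Matrix ι ι F), ← mul_assoc, ← Units.val_mul, inv_mul_cancel, Units.val_one, one_mul, mul_assoc,
      ← Units.val_mul, inv_mul_cancel, Units.val_one, mul_one]
  right_inv k := by
    apply Subtype.ext
    change (g : Matrix ι ι F) * (((g⁻¹ : GL ι F) : Matrix ι ι F) * k * (g : Matrix ι ι F)) *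
      ((g⁻¹ : GL ι F) : Matrix ι ι F) = k
    rw [mul_assoc ((g⁻¹ : GL ι F) : Matrix ι ι F), ← mul_assoc, ← Units.val_mul, mul_inv_cancel, Units.val_one, one_mul,
      mul_assoc, ← Units.val_mul, mul_inv_cancel, Units.val_one, mul_one]
  map_mul' a b := by
    apply Subtype.ext
    change (g : Matrix ι ι F) * ((a : Matrix ι ι F) * b) * ((g⁻¹ : GL ι F) : Matrix ι ι F) =
      ((g : Matrix ι ι F) * a * ((g⁻¹ : GL ι F) : Matrix ι ι F)) *
        ((g : Matrix ι ι F) * b * ((g⁻¹ : GL ι F) : Matrix ι ι F))
    have h : ((g⁻¹ : GL ι F) : Matrix ι ι F) * (g : Matrix ι ι F) = 1 := by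
      rw [← Units.val_mul, inv_mul_cancel, Units.val_one]
    calc _ = (g : Matrix ι ι F) * a * 1 * b * ((g⁻¹ : GL ι F) : Matrix ι ι F) := by
          simp only [mul_one, mul_assoc]
      _ = _ := by rw [← h]; simp only [mul_assoc]
  map_add' a b := by
    apply Subtype.ext
    change (g : Matrix ι ι F) * ((a : Matrix ι ι F) + b) * ((g⁻¹ : GL ι F) : Matrix ι ι F) =
      (g : Matrix ι ι F) * a * ((g⁻¹ : GL ι F) : Matrix ι ι F) +
        (g : Matrix ι ι F) * b * ((g⁻¹ : GL ι F) : Matrix ι ι F)
    rw [mul_add, add_mul]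
  commutes' c := by
    apply Subtype.ext
    change (g : Matrix ι ι F) * (algebraMap F (Matrix ι ι F) c) * ((g⁻¹ : GL ι F) : Matrix ι ι F) =
      algebraMap F (Matrix ι ι F) c
    rw [← Algebra.commutes, mul_assoc, ← Units.val_mul, mul_inv_cancel, Units.val_one, mul_one]

theorem conjAlg_val {g : GL ι F} (hg : g ∈ subalgebraNormalizer E) (k : E) :
    ((conjAlg hg k : E) : Matrix ι ι F) = (g : Matrix ι ι F) * k * ((g⁻¹ : GL ι F) : Matrix ι ι F) := rfl

theorem conjAlg_pow {g : GL ι F} (hg : g ∈ subalgebraNormalizer E) (n : ℕ) (k : E) :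
    (((conjAlg hg ^ n) k : E) : Matrix ι ι F) =
      ((g ^ n : GL ι F) : Matrix ι ι F) * k * (((g ^ n)⁻¹ : GL ι F) : Matrix ι ι F) := by
  induction n with
  | zero =>
    rw [pow_zero, pow_zero, AlgEquiv.one_apply, inv_one, Units.val_one, one_mul, mul_one]
  | succ n ih =>
    rw [pow_succ', AlgEquiv.mul_apply, conjAlg_val, ih, pow_succ', _root_.mul_inv_rev, Units.val_mul, Units.val_mul]
    simp only [mul_assoc]

/-- an element of order prime to `r` normalising a field of matrices of degree `r` centralises it -/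
theorem comm_of_coprime [Finite F] [Nonempty ι] (hE : IsFieldSubalgebra r E) {g : GL ι F}
    (hg : g ∈ subalgebraNormalizer E) (hco : (orderOf g).Coprime r) {e : Matrix ι ι F} (he : e ∈ E) :
    (g : Matrix ι ι F) * e = e * g := by
  let _ := (isField_of hE).toField
  have : Finite E := inferInstance
  have h1 : Nat.card (E ≃ₐ[F] E) = r := by
    rw [IsGalois.card_aut_eq_finrank, hE.finrank_eq]
  have h2 : (conjAlg hg) ^ r = 1 := by
    rw [← h1]; exact pow_card_eq_one'
  have h3 : (conjAlg hg) ^ orderOf g = 1 := by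
    apply AlgEquiv.ext
    intro k
    apply Subtype.ext
    rw [conjAlg_pow, pow_orderOf_eq_one, inv_one, Units.val_one, one_mul, mul_one, AlgEquiv.one_apply]
  have h4 : conjAlg hg = 1 := by
    have h5 := Nat.dvd_gcd (orderOf_dvd_of_pow_eq_one h3) (orderOf_dvd_of_pow_eq_one h2)
    rw [hco] at h5
    exact orderOf_eq_one_iff.1 (Nat.dvd_one.1 h5)
  have h6 := conjAlg_val hg ⟨e, he⟩
  rw [h4, AlgEquiv.one_apply] at h6
  calc (g : Matrix ι ι F) * e = (g : Matrix ι ι F) * e * (((g⁻¹ : GL ι F) : Matrix ι ι F) * g) := by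
        rw [← Units.val_mul, inv_mul_cancel, Units.val_one, mul_one]
    _ = e * g := by rw [← mul_assoc]; exact congrArg (· * (g : Matrix ι ι F)) h6.symm

/-- the dimension of an `E`-invariant subspace is divisible by `r` -/
theorem dvd_finrank [Nonempty ι] (hE : IsFieldSubalgebra r E) (W : Submodule F (ι → F))
    (hW : ∀ e ∈ E, ∀ w ∈ W, e *ᵥ w ∈ W) : r ∣ finrank F W := by
  let _ : Field E := (isField_of hE).toField
  let W' : Submodule E (ι → F) :=
    { carrier := W
      add_mem' := fun ha hb => W.add_mem ha hb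
      zero_mem' := W.zero_mem
      smul_mem' := fun c w hw => hW c c.2 w hw }
  have hfree : Module.Free E W' := Module.Free.of_divisionRing E W'
  have h1 := Module.finrank_mul_finrank F E W'
  rw [hE.finrank_eq] at h1
  have h2 : finrank F W' = finrank F W := by
    exact LinearEquiv.finrank_eq
      { toFun := fun w => ⟨w.1, w.2⟩
        invFun := fun w => ⟨w.1, w.2⟩
        map_add' := fun _ _ => rfl
        map_smul' := fun _ _ => rfl
        left_inv := fun _ => rfl
        right_inv := fun _ => rfl }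
  rw [← h2, ← h1]
  exact dvd_mul_right _ _

/-- the dimension of the kernel of a matrix commuting with `E` is divisible by `r` -/
theorem dvd_ker [Nonempty ι] (hE : IsFieldSubalgebra r E) {x : Matrix ι ι F} (hx : ∀ e ∈ E, x * e = e * x) :
    r ∣ finrank F (LinearMap.ker (Matrix.toLin' x)) := by
  apply dvd_finrank hE
  intro e he w hw
  rw [LinearMap.mem_ker, Matrix.toLin'_apply] at hw ⊢
  rw [Matrix.mulVec_mulVec, hx e he, ← Matrix.mulVec_mulVec, hw, Matrix.mulVec_zero]

theorem dvd_range [Nonempty ι] (hE : IsFieldSubalgebra r E) {x : Matrix ι ι F} (hx : ∀ e ∈ E, x * e = e * x) :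
    r ∣ finrank F (LinearMap.range (Matrix.toLin' x)) := by
  apply dvd_finrank hE
  rintro e he _ ⟨v, rfl⟩
  refine ⟨e *ᵥ v, ?_⟩
  rw [Matrix.toLin'_apply, Matrix.toLin'_apply, Matrix.mulVec_mulVec, Matrix.mulVec_mulVec, hx e he]

/-- a matrix commuting with `t` commutes with polynomials in `t` -/
theorem comm_aeval {t e : Matrix ι ι F} (h : t * e = e * t) (P : Polynomial F) :
    Polynomial.aeval t P * e = e * Polynomial.aeval t P := by
  induction P using Polynomial.induction_on' with
  | add p q hp hq => rw [map_add, add_mul, mul_add, hp, hq]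
  | monomial n a =>
    rw [Polynomial.aeval_monomial]
    have h1 : t ^ n * e = e * t ^ n := (Commute.pow_left (show Commute t e from h) n).eq
    rw [mul_assoc, h1, ← mul_assoc, Algebra.commutes, mul_assoc]

/-- **E-kill**: if `t` normalises a field of degree `r` prime to the order of `t`, then `r` divides the dimension of the
kernel of every polynomial in `t` -/
theorem kill [Finite F] [Nonempty ι] (hE : IsFieldSubalgebra r E) {t : GL ι F}
    (ht : t ∈ subalgebraNormalizer E) (hco : (orderOf t).Coprime r) (P : Polynomial F) :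
    r ∣ finrank F (LinearMap.ker (Matrix.toLin' (Polynomial.aeval (t : Matrix ι ι F) P))) :=
  dvd_ker hE fun _ he => comm_aeval (comm_of_coprime hE ht hco he) P

end Cfsg.Agent.H383.Cov
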