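import Cfsg.Agent.H383.Cov.Sim

/-!
# S2499, orthogonal families: the frame (helper383)

`noTwo_of_data` : three classes `A`, `B`, `C` of `Ω(Q)` with powers of `A`, `B` of the type of S5948 (`NumEl`), pairwise
disjoint sets of dimensions of invariant subspaces, `a`, `b` of different parity, and an odd dimensional kernel of a
polynomial in `C`, are pairwise incompatible, so `NoTwo (Ω(Q))`.
-/

set_option autoImplicit false
set_option linter.unusedSectionVars false

namespace Cfsg.Agent.H383.Cov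

open Module Cfsg Cfsg.Geo
open Cfsg.Agent.H278.Cov (Red Ext Num Av Inc NoTwo noTwo_of_three)
open scoped MatrixGroups Matrix

variable {ι : Type} [Fintype ι] [DecidableEq ι] {F : Type} [Field F] [Fintype F]

/-- the irreducible overgroups of the elements of S5948 in `Ω(Q)` (task COV-OG-O) -/
def OgO (Q : (ι → F) → F) : Prop :=
  ∀ (k : ℕ) (H : Subgroup (GL ι F)), H ≤ omegaGL Q → H ≠ omegaGL Q → ∀ g ∈ H,
    Num (Fintype.card F) (Fintype.card ι) k (orderOf g) → Red H ∨ Ext (Nat.gcd (Fintype.card ι) k) H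

/-- `Ω(Q)` as a group of matrices -/
def emb (Q : (ι → F) → F) : Omega F Q →* GL ι F := (isometryGroup F Q).subtype.comp (Omega F Q).subtype

theorem emb_injective (Q : (ι → F) → F) : Function.Injective (emb Q) := by
  intro x y h
  exact Subtype.ext (Subtype.ext h)

theorem range_emb (Q : (ι → F) → F) : (emb Q).range = omegaGL Q := by
  rw [emb, MonoidHom.range_comp, Subgroup.range_subtype]
  rfl

theorem map_emb_le {Q : (ι → F) → F} (L : Subgroup (Omega F Q)) : L.map (emb Q) ≤ omegaGL Q := by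
  rw [← range_emb, MonoidHom.range_eq_map]
  exact Subgroup.map_mono le_top

theorem map_emb_ne {Q : (ι → F) → F} {L : Subgroup (Omega F Q)} (hL : L ≠ ⊤) : L.map (emb Q) ≠ omegaGL Q := by
  intro h
  apply hL
  rw [← range_emb, MonoidHom.range_eq_map] at h
  exact Subgroup.map_injective (emb_injective Q) h

theorem omegaGL_le (Q : (ι → F) → F) : omegaGL Q ≤ isometryGroup F Q := by
  rintro _ ⟨x, -, rfl⟩
  exact x.2

/-- the elements of S5948 with an irreducible block of minus type -/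
structure NumEl (a : ℕ) (x : GL ι F) : Prop where
  num : Num (Fintype.card F) (Fintype.card ι) (2 * a) (orderOf x)
  blk : Blk (2 * a) x
  odd : Odd (orderOf x)
  dvd : orderOf x ∣ Nat.card F ^ a + 1

theorem NumEl.conj {a : ℕ} {x : GL ι F} (h : NumEl a x) (g : GL ι F) : NumEl a (g * x * g⁻¹) :=
  ⟨by rw [orderOf_conj]; exact h.num, h.blk.conj g, by rw [orderOf_conj]; exact h.odd,
    by rw [orderOf_conj]; exact h.dvd⟩

theorem ker_conj (g x : GL ι F) (P : Polynomial F) :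
    finrank F (LinearMap.ker (Matrix.toLin' (Polynomial.aeval ((g * x * g⁻¹ : GL ι F) : Matrix ι ι F) P))) =
      finrank F (LinearMap.ker (Matrix.toLin' (Polynomial.aeval (x : Matrix ι ι F) P))) := by
  have h : Sim (g * x * g⁻¹) (Matrix.toLin' (x : Matrix ι ι F)) := by
    refine ⟨(eqv g).symm, fun v => ?_⟩
    rw [eqv_symm_apply, eqv_symm_apply, Matrix.toLin'_apply, Units.val_mul, Units.val_mul, Matrix.mulVec_mulVec,
      Matrix.mulVec_mulVec, ← mul_assoc, ← mul_assoc, ← Units.val_mul, inv_mul_cancel, Units.val_one, one_mul]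
  have h' : Sim x (Matrix.toLin' (x : Matrix ι ι F)) := ⟨LinearEquiv.refl F _, fun v => rfl⟩
  rw [h.ker, h'.ker]

/-- two classes are incompatible -/
theorem inc_of {Q : (ι → F) → F} {A B : Omega F Q}
    (h : ∀ H : Subgroup (GL ι F), H ≤ omegaGL Q → H ≠ omegaGL Q → ∀ g g' : GL ι F,
      g * emb Q A * g⁻¹ ∈ H → g' * emb Q B * g'⁻¹ ∈ H → False) : Inc A B := by
  intro L hL
  by_contra hcon
  rw [not_or] at hcon
  obtain ⟨g, hg⟩ := H278.Cov.not_av hcon.1
  obtain ⟨g', hg'⟩ := H278.Cov.not_av hcon.2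
  refine h (L.map (emb Q)) (map_emb_le L) (map_emb_ne hL) (emb Q g) (emb Q g') ⟨_, hg, ?_⟩ ⟨_, hg', ?_⟩
  · rw [map_mul, map_mul, map_inv]
  · rw [map_mul, map_mul, map_inv]

/-- reducible groups and dimensions -/
theorem red_dims {H : Subgroup (GL ι F)} (hR : Red H) {x y : GL ι F} (hx : x ∈ H) (hy : y ∈ H) {S T : Set ℕ}
    (dx : Dims x S) (dy : Dims y T) (hST : ∀ d, 0 < d → d < Fintype.card ι → d ∈ S → d ∈ T → False) : False := by
  obtain ⟨W, h0, h1, hW⟩ := hR
  have hinv : ∀ z ∈ H, ∀ w ∈ W, (z : Matrix ι ι F) *ᵥ w ∈ W := fun z hz w hw => (hW hz w).1 hw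
  refine hST (finrank F W) ?_ ?_ (dx W (hinv x hx)) (dy W (hinv y hy))
  · exact Nat.pos_of_ne_zero fun h => h0 (Submodule.finrank_eq_zero.1 h)
  · rw [← Module.finrank_fintype_fun_eq_card (R := F)]
    exact Submodule.finrank_lt h1

theorem pow_conj (g x : GL ι F) (n : ℕ) : (g * x * g⁻¹) ^ n = g * x ^ n * g⁻¹ := conj_pow

/-- **The frame.** -/
theorem noTwo_of_data [Nonempty ι] {Q : (ι → F) → F} (hQ : IsNondegenerateQuadraticForm Q) (og : OgO Q) {A B C : GL ι F}
    (hA : A ∈ omegaGL Q) (hB : B ∈ omegaGL Q) (hC : C ∈ omegaGL Q) {a b i j : ℕ} (ha : 1 ≤ a) (hb : 1 ≤ b)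
    (hpar : Even a ∧ Odd b ∨ Odd a ∧ Even b)
    (hgA : ∀ r : ℕ, r.Prime → r ∣ Nat.gcd (Fintype.card ι) (2 * a) → r = 2)
    (hgB : ∀ r : ℕ, r.Prime → r ∣ Nat.gcd (Fintype.card ι) (2 * b) → r = 2)
    (hAi : NumEl a (A ^ i)) (hBj : NumEl b (B ^ j)) {SA SB SC : Set ℕ} (dA : Dims A SA) (dB : Dims B SB)
    (dC : Dims C SC) (hAB : ∀ d, 0 < d → d < Fintype.card ι → d ∈ SA → d ∈ SB → False)
    (hAC : ∀ d, 0 < d → d < Fintype.card ι → d ∈ SA → d ∈ SC → False)
    (hBC : ∀ d, 0 < d → d < Fintype.card ι → d ∈ SB → d ∈ SC → False)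
    (hCo : Odd (orderOf C)) (P : Polynomial F)
    (hker : Odd (finrank F (LinearMap.ker (Matrix.toLin' (Polynomial.aeval (C : Matrix ι ι F) P))))) :
    NoTwo (Omega F Q) := by
  obtain ⟨A', rfl⟩ : ∃ A', emb Q A' = A := by rw [← range_emb] at hA; exact hA
  obtain ⟨B', rfl⟩ : ∃ B', emb Q B' = B := by rw [← range_emb] at hB; exact hB
  obtain ⟨C', rfl⟩ : ∃ C', emb Q C' = C := by rw [← range_emb] at hC; exact hC
  have key : ∀ {x : GL ι F} {a i : ℕ}, (∀ r : ℕ, r.Prime → r ∣ Nat.gcd (Fintype.card ι) (2 * a) → r = 2) →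
      NumEl a (x ^ i) → ∀ H : Subgroup (GL ι F), H ≤ omegaGL Q → H ≠ omegaGL Q → ∀ g : GL ι F,
      g * x * g⁻¹ ∈ H → Red H ∨ ∃ E : Subalgebra F (Matrix ι ι F), IsFieldSubalgebra 2 E ∧
        H ≤ subalgebraNormalizer E := by
    intro x a i hg hx H hle hne g hgx
    rcases og _ H hle hne _ (H.pow_mem hgx i) (by rw [pow_conj]; exact (hx.conj g).num) with h | ⟨r, E, hr, hrd, hE, hN⟩
    · exact Or.inl h
    · obtain rfl := hg r hr hrd
      exact Or.inr ⟨E, hE, hN⟩
  have hkill : ∀ (H : Subgroup (GL ι F)) (E : Subalgebra F (Matrix ι ι F)), IsFieldSubalgebra 2 E →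
      H ≤ subalgebraNormalizer E → ∀ g : GL ι F, g * emb Q C' * g⁻¹ ∈ H → False := by
    intro H E hE hN g hg
    have h1 := kill hE (hN hg) (by rw [orderOf_conj]; exact Nat.coprime_two_right.2 hCo) P
    rw [ker_conj] at h1
    exact (Nat.not_even_iff_odd.2 hker) (even_iff_two_dvd.2 h1)
  refine noTwo_of_three (x := A') (y := B') (z := C') (inc_of fun H hle hne g g' h1 h2 => ?_)
    (inc_of fun H hle hne g g' h1 h2 => ?_) (inc_of fun H hle hne g g' h1 h2 => ?_)
  · by_cases hR : Red H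
    · exact red_dims hR h1 h2 (dA.conj g) (dB.conj g') hAB
    obtain ⟨E, hE, hN⟩ := (key hgA hAi H hle hne g h1).resolve_left hR
    have hiso : H ≤ isometryGroup F Q := hle.trans (omegaGL_le Q)
    have hx := H.pow_mem h1 i
    have hy := H.pow_mem h2 j
    rw [pow_conj] at hx hy
    have nx := hAi.conj g
    have ny := hBj.conj g'
    rcases hpar with ⟨he, ho⟩ | ⟨ho, he⟩
    · exact parity hQ hiso hR hE hN hx hy ha hb he ho nx.odd ny.odd nx.dvd ny.dvd nx.blk ny.blk
    · exact parity hQ hiso hR hE hN hy hx hb ha he ho ny.odd nx.odd ny.dvd nx.dvd ny.blk nx.blk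
  · rcases key hgB hBj H hle hne g h1 with hR | ⟨E, hE, hN⟩
    · exact red_dims hR h1 h2 (dB.conj g) (dC.conj g') hBC
    · exact hkill H E hE hN g' h2
  · rcases key hgA hAi H hle hne g h1 with hR | ⟨E, hE, hN⟩
    · exact red_dims hR h1 h2 (dA.conj g) (dC.conj g') hAC
    · exact hkill H E hE hN g' h2

end Cfsg.Agent.H383.Cov
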