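import Cfsg.Agent.H93.PReg.OrthTori
import Cfsg.Agent.H383.Cov.Parity

/-!
# S2499, orthogonal families: models of the torus elements (helper383)

* `exists_neg` : a field `L` of degree `2 k` with a form of minus type and `u ∈ L` of order `q ^ k + 1` acting by
  isometries; `exists_pos` : `K × K`, `K` of degree `k`, plus type, `(u, u⁻¹)` of order `q ^ k - 1`;
* `irr_mul` : multiplications acting irreducibly;
* `split_inv` : `W ≤ V₁ × V₂` invariant under `(x₁, 1)`, `x₁` without fixed vectors, is a product;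
* `Sim X x` : the matrix `X` is the matrix of `x` in some basis; transfer of the data.
-/

set_option autoImplicit false
set_option linter.unusedSectionVars false
set_option linter.style.haveILetI false

namespace Cfsg.Agent.H383.Cov

open Module Cfsg QuadraticMap
open Cfsg.Agent.LieClassical.OrthCore Cfsg.Agent.LieClassical.OrthForms
open Cfsg.Agent.H93.PReg Cfsg.Agent.H93.PReg.Orth
open Cfsg.Agent.H182.Sign Cfsg.Agent.H182.Orth
open scoped MatrixGroups Matrix

section Ex

variable (F : Type) [Field F] [Fintype F]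

theorem exists_neg {k : ℕ} (hk : k ≠ 0) :
    ∃ (L : Type) (_ : Field L) (_ : Algebra F L) (_ : Finite L) (Q : QuadraticForm F L) (u : L),
      Sg Q k (-1) ∧ finrank F L = 2 * k ∧ orderOf u = Fintype.card F ^ k + 1 ∧ ∀ v, Q (u * v) = Q v := by
  obtain ⟨K, _, _, b, hKf, -, hK, -⟩ := Singer.exists_ext F k hk
  have := Fintype.ofFinite K
  obtain ⟨L, _, _, b', hLf, g, hL, hg⟩ := Singer.exists_ext K 2 two_ne_zero
  let _ : Algebra F L := ((algebraMap K L).comp (algebraMap F K)).toAlgebra
  have : IsScalarTower F K L := IsScalarTower.of_algebraMap_eq fun _ => rfl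
  have hKc : Fintype.card K = Fintype.card F ^ k := by rw [← hK, Nat.card_eq_fintype_card]
  have hq : 2 ≤ Fintype.card K := Fintype.one_lt_card
  have hrk : Module.finrank F K = k := by rw [Module.finrank_eq_card_basis b, Fintype.card_fin]
  have hs := (sg_normQ b').res (F := F)
  rw [hrk, mul_one] at hs
  have hnorm : Algebra.norm K ((g : L) ^ (Fintype.card K - 1)) = 1 := by
    rw [map_pow]
    apply FiniteField.pow_card_sub_one_eq_one
    rw [Ne, Algebra.norm_eq_zero_iff_of_basis b']
    exact g.ne_zero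
  have ho : orderOf ((g : L) ^ (Fintype.card K - 1)) = Fintype.card F ^ k + 1 := by
    rw [← Units.val_pow_eq_pow_val, orderOf_units, orderOf_pow_of_dvd (by omega), hg, ← hKc]
    · have h1 : Fintype.card K ^ 2 - 1 = (Fintype.card K + 1) * (Fintype.card K - 1) := by
        have := Nat.sq_sub_sq (Fintype.card K) 1
        simpa using this
      rw [h1, Nat.mul_div_cancel _ (by omega)]
    · rw [hg]
      simpa using Nat.sub_dvd_pow_sub_pow (Fintype.card K) 1 2
  refine ⟨L, inferInstance, inferInstance, inferInstance, traceForm F (normQ b'),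
    (g : L) ^ (Fintype.card K - 1), hs, hs.dim, ho, ?_⟩
  intro v
  rw [traceForm_apply, traceForm_apply]
  congr 1
  rw [normQ_apply, normQ_apply, map_mul, hnorm, one_mul]

theorem exists_pos {k : ℕ} (hk : k ≠ 0) :
    ∃ (K : Type) (_ : Field K) (_ : Algebra F K) (_ : Finite K) (Q : QuadraticForm F (K × K)) (u : Kˣ),
      Sg Q k 1 ∧ finrank F K = k ∧ orderOf u = Fintype.card F ^ k - 1 ∧
      ∀ (w : Kˣ) (v : K × K), Q ((w : K) * v.1, ((w⁻¹ : Kˣ) : K) * v.2) = Q v := by
  obtain ⟨K, _, _, b, hKf, y, hK, hy⟩ := Singer.exists_ext F k hk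
  have hrk : Module.finrank F K = k := by rw [Module.finrank_eq_card_basis b, Fintype.card_fin]
  have hs := (sg_hypForm (F := K)).res (F := F)
  rw [hrk, mul_one] at hs
  refine ⟨K, inferInstance, inferInstance, inferInstance, traceForm F (hypForm K), y, hs, hrk, hy, ?_⟩
  intro w v
  rw [traceForm_apply, traceForm_apply]
  congr 1
  show (w : K) * v.1 * (((w⁻¹ : Kˣ) : K) * v.2) = v.1 * v.2
  have h1 : (w : K) * ((w⁻¹ : Kˣ) : K) = 1 := Units.mul_inv w
  linear_combination v.1 * v.2 * h1

end Ex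

/-- a multiplication of large order acts irreducibly -/
theorem adjoin_eq_top {F L : Type*} [Field F] [Finite F] [Field L] [Finite L] [Algebra F L] {ζ : L}
    (h : ∀ j, 1 ≤ j → j < finrank F L → ¬ orderOf ζ ∣ Nat.card F ^ j - 1) (h0 : ζ ≠ 0) :
    Algebra.adjoin F ({ζ} : Set L) = ⊤ := by
  have hadj : IntermediateField.adjoin F ({ζ} : Set L) = ⊤ := by
    set E := IntermediateField.adjoin F ({ζ} : Set L) with hE
    have hmem : ζ ∈ E := IntermediateField.mem_adjoin_simple_self F _
    have hcE : Nat.card E = Nat.card F ^ Module.finrank F E := Module.natCard_eq_pow_finrank (K := F) (V := E)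
    have hpow : ζ ^ (Nat.card E - 1) = 1 := by
      have : Fintype E := Fintype.ofFinite E
      have h1 := FiniteField.pow_card_sub_one_eq_one (⟨ζ, hmem⟩ : E) (by
        intro h0'
        exact h0 (congrArg Subtype.val h0'))
      rw [Nat.card_eq_fintype_card]
      exact congrArg Subtype.val h1
    have h3 : orderOf ζ ∣ Nat.card F ^ Module.finrank F E - 1 := by
      rw [← hcE]
      exact orderOf_dvd_of_pow_eq_one hpow
    have h4 : 1 ≤ Module.finrank F E := Module.finrank_pos
    have h5 : ¬ Module.finrank F E < finrank F L := fun hlt => h _ h4 hlt h3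
    have h6 : Module.finrank F E ≤ finrank F L := Submodule.finrank_le E.toSubmodule
    exact IntermediateField.eq_of_le_of_finrank_eq le_top (by rw [IntermediateField.finrank_top']; omega)
  rw [← IntermediateField.adjoin_simple_toSubalgebra_of_isAlgebraic (IsAlgebraic.of_finite F ζ), hadj]
  rfl

theorem irr_mul {F L : Type*} [Field F] [Finite F] [Field L] [Finite L] [Algebra F L] {ζ : L}
    (h : ∀ j, 1 ≤ j → j < finrank F L → ¬ orderOf ζ ∣ Nat.card F ^ j - 1) (h0 : ζ ≠ 0)
    {W : Submodule F L} (hW : ∀ w ∈ W, ζ * w ∈ W) : W = ⊥ ∨ W = ⊤ := by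
  by_cases hb : W = ⊥
  · exact Or.inl hb
  right
  obtain ⟨w, hw, hw0⟩ := (Submodule.ne_bot_iff W).1 hb
  let S : Subalgebra F L :=
    { carrier := {a | ∀ w ∈ W, a * w ∈ W}
      mul_mem' := by
        intro a c ha hc w hw
        rw [mul_assoc]
        exact ha _ (hc w hw)
      add_mem' := by
        intro a c ha hc w hw
        rw [add_mul]
        exact W.add_mem (ha w hw) (hc w hw)
      algebraMap_mem' := by
        intro r w hw
        rw [← Algebra.smul_def]
        exact W.smul_mem r hw }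
  have h1 : Algebra.adjoin F ({ζ} : Set L) ≤ S := by
    apply Algebra.adjoin_le
    intro a ha
    rw [Set.mem_singleton_iff.1 ha]
    exact hW
  rw [adjoin_eq_top h h0] at h1
  rw [eq_top_iff]
  intro v _
  have h2 : v * w⁻¹ ∈ S := h1 trivial
  have h3 := h2 w hw
  rwa [mul_assoc, inv_mul_cancel₀ hw0, mul_one] at h3

/-- if the multiplication by `ζ⁻¹` on an extension of odd degree has the same minimal polynomial, `ζ ^ 2 = 1` -/
theorem sq_of_root {F K : Type*} [Field F] [Field K] [Finite K] [Algebra F K] (hodd : Odd (finrank F K)) {ζ : K}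
    (h0 : ζ ≠ 0) (h : Polynomial.aeval ζ⁻¹ (minpoly F ζ) = 0) : ζ * ζ = 1 := by
  have hF : Finite F := Finite.of_injective (algebraMap F K) (algebraMap F K).injective
  have hint : IsIntegral F ζ := IsIntegral.of_finite F ζ
  have hmin : minpoly F ζ⁻¹ = minpoly F ζ := by
    have h1 := minpoly.eq_of_irreducible_of_monic (minpoly.irreducible hint) h (minpoly.monic hint)
    exact h1.symm
  obtain ⟨σ, hσ⟩ := (Normal.minpoly_eq_iff_mem_orbit (F := F) (E := K) (x := ζ⁻¹) (y := ζ)).1 hmin
  have hσ1 : σ ζ = ζ⁻¹ := hσ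
  have hcard : Nat.card (K ≃ₐ[F] K) = finrank F K := IsGalois.card_aut_eq_finrank F K
  have h2 : (σ ^ 2) ζ = ζ := by
    rw [pow_two, AlgEquiv.mul_apply, hσ1, map_inv₀, hσ1, inv_inv]
  have h3 : σ ^ finrank F K = 1 := by
    rw [← hcard]; exact pow_card_eq_one'
  obtain ⟨k, hk⟩ := hodd
  have h4 : σ = (σ ^ 2) ^ (k + 1) := by
    rw [← pow_mul, show 2 * (k + 1) = (2 * k + 1) + 1 by ring, pow_succ, ← hk, h3, one_mul]
  have h5 : ∀ n : ℕ, ((σ ^ 2) ^ n) ζ = ζ := by
    intro n
    induction n with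
    | zero => rw [pow_zero, AlgEquiv.one_apply]
    | succ n ih => rw [pow_succ, AlgEquiv.mul_apply, h2, ih]
  have h6 : σ ζ = ζ := by
    rw [h4]; exact h5 _
  rw [h6] at hσ1
  nth_rewrite 1 [hσ1]
  exact inv_mul_cancel₀ h0

section Split

variable {F V₁ V₂ : Type*} [Field F] [AddCommGroup V₁] [Module F V₁] [FiniteDimensional F V₁]
  [AddCommGroup V₂] [Module F V₂] [FiniteDimensional F V₂]

theorem split_inv {x₁ : Module.End F V₁} (hx : ∀ v, x₁ v = v → v = 0) {W : Submodule F (V₁ × V₂)}
    (hW : ∀ w ∈ W, (x₁ w.1, w.2) ∈ W) :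
    finrank F W = finrank F (W.comap (LinearMap.inl F V₁ V₂)) + finrank F (W.comap (LinearMap.inr F V₁ V₂)) := by
  set A : Submodule F V₁ := W.map (LinearMap.fst F V₁ V₂) with hA
  set B : Submodule F V₁ := W.comap (LinearMap.inl F V₁ V₂) with hB
  have hinj : Function.Injective ⇑(x₁ - 1 : Module.End F V₁) := by
    rw [← LinearMap.ker_eq_bot, LinearMap.ker_eq_bot']
    intro v hv
    exact hx v (sub_eq_zero.1 hv)
  have hBA : B ≤ A := by
    intro v hv
    exact ⟨(v, 0), hv, rfl⟩
  have hAB : A.map (x₁ - 1) ≤ B := by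
    rintro _ ⟨_, ⟨w, hw, rfl⟩, rfl⟩
    have h1 := W.sub_mem (hW w hw) hw
    rw [hB, Submodule.mem_comap]
    have h2 : LinearMap.inl F V₁ V₂ ((x₁ - 1) (LinearMap.fst F V₁ V₂ w)) = (x₁ w.1, w.2) - w := by
      refine Prod.ext rfl ?_
      change (0 : V₂) = w.2 - w.2
      rw [sub_self]
    rw [h2]
    exact h1
  have hAeq : B = A := by
    apply Submodule.eq_of_le_of_finrank_le hBA
    rw [(Submodule.equivMapOfInjective (x₁ - 1 : Module.End F V₁) hinj A).finrank_eq]
    exact Submodule.finrank_mono hAB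
  have hW1 : ∀ w ∈ W, ((w.1, 0) : V₁ × V₂) ∈ W := by
    intro w hw
    have h1 : w.1 ∈ A := ⟨w, hw, rfl⟩
    rw [← hAeq] at h1
    exact h1
  have hW2 : ∀ w ∈ W, ((0, w.2) : V₁ × V₂) ∈ W := by
    intro w hw
    have h1 := W.sub_mem hw (hW1 w hw)
    have h2 : w - (w.1, 0) = (0, w.2) := Prod.ext (sub_self _) (sub_zero _)
    rwa [h2] at h1
  let e : W ≃ₗ[F] (B × W.comap (LinearMap.inr F V₁ V₂)) :=
    { toFun := fun w => (⟨w.1.1, hW1 w.1 w.2⟩, ⟨w.1.2, hW2 w.1 w.2⟩)
      map_add' := fun _ _ => rfl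
      map_smul' := fun _ _ => rfl
      invFun := fun p => ⟨(p.1.1, p.2.1), by
        have h1 := W.add_mem p.1.2 p.2.2
        have h2 : LinearMap.inl F V₁ V₂ p.1 + LinearMap.inr F V₁ V₂ p.2 = (p.1.1, p.2.1) :=
          Prod.ext (add_zero _) (zero_add _)
        rwa [h2] at h1⟩
      left_inv := fun _ => rfl
      right_inv := fun _ => rfl }
  rw [e.finrank_eq, Module.finrank_prod]

end Split

theorem exists_pow_left {A B : Type*} [Monoid A] [Monoid B] {x : A} {y : B} {M N : ℕ} (hx : x ^ M = 1)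
    (hy : y ^ N = 1) (h : M.Coprime N) : ∃ j : ℕ, x ^ j = x ∧ y ^ j = 1 := by
  obtain ⟨j, h1, h2⟩ := Nat.chineseRemainder h 1 0
  refine ⟨j, ?_, ?_⟩
  · have h3 := pow_eq_pow_of_modEq h1 hx
    rwa [pow_one] at h3
  · have h3 := pow_eq_pow_of_modEq h2 hy
    rwa [pow_zero] at h3

/-- powers of a pair of elements of coprime orders -/
theorem exists_pow_right {A B : Type*} [Monoid A] [Monoid B] {x : A} {y : B} {M N : ℕ} (hx : x ^ M = 1)
    (hy : y ^ N = 1) (h : M.Coprime N) : ∃ j : ℕ, x ^ j = 1 ∧ y ^ j = y := by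
  obtain ⟨j, h1, h2⟩ := exists_pow_left hy hx h.symm
  exact ⟨j, h2, h1⟩

end Cfsg.Agent.H383.Cov
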