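import Cfsg.Agent.H383.Cov.Frame
import Cfsg.Agent.H689.Num

/-!
# S2499, orthogonal families: pairs of endomorphisms (helper383)

* `pair_dims` : dimensions of subspaces invariant under `(x₁, x₂)`, coprime orders;
* `dg w` : `(w, w⁻¹)` on `K × K`; `ker_dg`; `aeval_pair`.
-/

set_option autoImplicit false
set_option linter.unusedSectionVars false
set_option linter.style.haveILetI false

namespace Cfsg.Agent.H383.Cov

open Module Cfsg Cfsg.Geo QuadraticMap
open Cfsg.Agent.LieClassical.OrthCore Cfsg.Agent.LieClassical.OrthForms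
open Cfsg.Agent.H182.Sign
open Cfsg.Agent.H278.Cov (Red Ext Num Av Inc NoTwo)
open scoped MatrixGroups Matrix

section Pair

variable {F V₁ V₂ : Type*} [Field F] [AddCommGroup V₁] [Module F V₁] [FiniteDimensional F V₁]
  [AddCommGroup V₂] [Module F V₂] [FiniteDimensional F V₂]

theorem pair_pow (x₁ : Module.End F V₁) (x₂ : Module.End F V₂) (n : ℕ) :
    (x₁.prodMap x₂ : Module.End F (V₁ × V₂)) ^ n = (x₁ ^ n).prodMap (x₂ ^ n) := by
  induction n with
  | zero => rfl
  | succ n ih => rw [pow_succ', ih, pow_succ', pow_succ']; rfl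

theorem pair_apply (x₁ : Module.End F V₁) (x₂ : Module.End F V₂) (v : V₁ × V₂) :
    (x₁.prodMap x₂ : Module.End F (V₁ × V₂)) v = (x₁ v.1, x₂ v.2) := rfl

theorem inv_pow {V : Type*} [AddCommGroup V] [Module F V] {x : Module.End F V} {W : Submodule F V}
    (hW : ∀ w ∈ W, x w ∈ W) (n : ℕ) : ∀ w ∈ W, (x ^ n) w ∈ W := by
  induction n with
  | zero => intro w hw; exact hw
  | succ n ih => intro w hw; rw [pow_succ', Module.End.mul_apply]; exact hW _ (ih w hw)

/-- dimensions of subspaces invariant under a pair -/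
theorem pair_dims {x₁ : Module.End F V₁} {x₂ : Module.End F V₂} {M N : ℕ} (h₁ : x₁ ^ M = 1) (h₂ : x₂ ^ N = 1)
    (hc : M.Coprime N) (hf : ∀ v, x₁ v = v → v = 0) {S₁ S₂ : Set ℕ}
    (d₁ : ∀ W : Submodule F V₁, (∀ w ∈ W, x₁ w ∈ W) → finrank F W ∈ S₁)
    (d₂ : ∀ W : Submodule F V₂, (∀ w ∈ W, x₂ w ∈ W) → finrank F W ∈ S₂) {W : Submodule F (V₁ × V₂)}
    (hW : ∀ w ∈ W, (x₁.prodMap x₂ : Module.End F (V₁ × V₂)) w ∈ W) :
    ∃ s ∈ S₁, ∃ t ∈ S₂, finrank F W = s + t := by
  obtain ⟨j, hj1, hj2⟩ := exists_pow_left h₁ h₂ hc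
  obtain ⟨k, hk1, hk2⟩ := exists_pow_right h₁ h₂ hc
  have hWj : ∀ w ∈ W, (x₁ w.1, w.2) ∈ W := by
    intro w hw
    have h := inv_pow hW j w hw
    rw [pair_pow, hj1, hj2] at h
    exact h
  have hWk : ∀ w ∈ W, (w.1, x₂ w.2) ∈ W := by
    intro w hw
    have h := inv_pow hW k w hw
    rw [pair_pow, hk1, hk2] at h
    exact h
  refine ⟨_, d₁ (W.comap (LinearMap.inl F V₁ V₂)) ?_, _, d₂ (W.comap (LinearMap.inr F V₁ V₂)) ?_, split_inv hf hWj⟩
  · intro w hw
    exact hWj _ hw
  · intro w hw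
    exact hWk _ hw

theorem range_pair {x₁ : Module.End F V₁} (hf : ∀ v, x₁ v = v → v = 0) :
    finrank F (LinearMap.range ((x₁.prodMap 1 : Module.End F (V₁ × V₂)) - 1)) = finrank F V₁ := by
  have hinj : Function.Injective ⇑(x₁ - 1 : Module.End F V₁) := by
    rw [← LinearMap.ker_eq_bot, LinearMap.ker_eq_bot']
    intro v hv
    exact hf v (sub_eq_zero.1 hv)
  have hsurj : Function.Surjective ⇑(x₁ - 1 : Module.End F V₁) := LinearMap.injective_iff_surjective.1 hinj
  have h1 : LinearMap.range ((x₁.prodMap 1 : Module.End F (V₁ × V₂)) - 1) =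
      LinearMap.range (LinearMap.inl F V₁ V₂) := by
    apply le_antisymm
    · rintro _ ⟨v, rfl⟩
      refine ⟨(x₁ - 1) v.1, ?_⟩
      refine Prod.ext rfl ?_
      change (0 : V₂) = v.2 - v.2
      rw [sub_self]
    · rintro _ ⟨v, rfl⟩
      obtain ⟨u, hu⟩ := hsurj v
      refine ⟨(u, 0), ?_⟩
      refine Prod.ext hu ?_
      change (0 : V₂) - 0 = 0
      rw [sub_self]
  rw [h1, LinearMap.finrank_range_of_inj LinearMap.inl_injective]

theorem aeval_pair (x₁ : Module.End F V₁) (x₂ : Module.End F V₂) (P : Polynomial F) :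
    Polynomial.aeval (x₁.prodMap x₂ : Module.End F (V₁ × V₂)) P =
      (Polynomial.aeval x₁ P).prodMap (Polynomial.aeval x₂ P) := by
  induction P using Polynomial.induction_on' with
  | add p q hp hq => rw [map_add, map_add, map_add, hp, hq]; rfl
  | monomial n a =>
    rw [Polynomial.aeval_monomial, Polynomial.aeval_monomial, Polynomial.aeval_monomial, pair_pow,
      ← Algebra.smul_def, ← Algebra.smul_def, ← Algebra.smul_def]
    rfl

theorem finrank_prod' (A : Submodule F V₁) (B : Submodule F V₂) :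
    finrank F (A.prod B : Submodule F (V₁ × V₂)) = finrank F A + finrank F B := by
  let e : (A.prod B : Submodule F (V₁ × V₂)) ≃ₗ[F] (A × B) :=
    { toFun := fun w => (⟨w.1.1, w.2.1⟩, ⟨w.1.2, w.2.2⟩)
      map_add' := fun _ _ => rfl
      map_smul' := fun _ _ => rfl
      invFun := fun p => ⟨(p.1.1, p.2.1), p.1.2, p.2.2⟩
      left_inv := fun _ => rfl
      right_inv := fun _ => rfl }
  rw [e.finrank_eq, Module.finrank_prod]

theorem ker_pair (f : Module.End F V₁) (g : Module.End F V₂) :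
    finrank F (LinearMap.ker (f.prodMap g)) = finrank F (LinearMap.ker f) + finrank F (LinearMap.ker g) := by
  rw [LinearMap.ker_prodMap, finrank_prod']

end Pair

section Mul

variable {F K : Type*} [Field F] [Field K] [Algebra F K] [FiniteDimensional F K]

theorem aeval_mulLeft (w : K) (P : Polynomial F) :
    Polynomial.aeval (LinearMap.mulLeft F w : Module.End F K) P = LinearMap.mulLeft F (Polynomial.aeval w P) := by
  have h : (LinearMap.mulLeft F w : Module.End F K) = Algebra.lmul F K w := rfl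
  rw [h, Polynomial.aeval_algHom_apply]
  rfl

theorem ker_mulLeft_of_ne {w : K} (h : w ≠ 0) : finrank F (LinearMap.ker (LinearMap.mulLeft F w : Module.End F K)) = 0 := by
  rw [Submodule.finrank_eq_zero, LinearMap.ker_eq_bot']
  intro v hv
  rw [LinearMap.mulLeft_apply] at hv
  exact (mul_eq_zero.1 hv).resolve_left h

theorem ker_mulLeft_zero : finrank F (LinearMap.ker (LinearMap.mulLeft F (0 : K) : Module.End F K)) = finrank F K := by
  have h : LinearMap.ker (LinearMap.mulLeft F (0 : K) : Module.End F K) = ⊤ := by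
    rw [eq_top_iff]
    intro v _
    rw [LinearMap.mem_ker, LinearMap.mulLeft_apply, zero_mul]
  rw [h, finrank_top]

theorem mulLeft_pow (w : K) (n : ℕ) : (LinearMap.mulLeft F w : Module.End F K) ^ n = LinearMap.mulLeft F (w ^ n) :=
  LinearMap.pow_mulLeft F K w n

theorem mulLeft_eq_one {w : K} : (LinearMap.mulLeft F w : Module.End F K) = 1 ↔ w = 1 := by
  constructor
  · intro h
    have h1 := congrArg (fun f : Module.End F K => f 1) h
    simpa using h1
  · rintro rfl
    apply LinearMap.ext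
    intro v
    simp

theorem orderOf_mulLeft (w : K) : orderOf (LinearMap.mulLeft F w : Module.End F K) = orderOf w := by
  apply Nat.dvd_antisymm
  · apply orderOf_dvd_of_pow_eq_one
    rw [mulLeft_pow, mulLeft_eq_one, pow_orderOf_eq_one]
  · apply orderOf_dvd_of_pow_eq_one
    rw [← mulLeft_eq_one (F := F), ← mulLeft_pow, pow_orderOf_eq_one]

theorem mulLeft_free {w : K} (h : w ≠ 1) : ∀ v : K, (LinearMap.mulLeft F w : Module.End F K) v = v → v = 0 := by
  intro v hv
  rw [LinearMap.mulLeft_apply] at hv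
  have h1 : (w - 1) * v = 0 := by rw [sub_mul, hv, one_mul, sub_self]
  exact (mul_eq_zero.1 h1).resolve_left (sub_ne_zero.2 h)

/-- the element `(w, w⁻¹)` on `K × K` -/
noncomputable def dg (F : Type*) {K : Type*} [Field F] [Field K] [Algebra F K] (w : K) : Module.End F (K × K) :=
  (LinearMap.mulLeft F w).prodMap (LinearMap.mulLeft F w⁻¹)

theorem dg_apply (w : K) (v : K × K) : dg F w v = (w * v.1, w⁻¹ * v.2) := rfl

theorem dg_pow (w : K) (n : ℕ) : (dg F w) ^ n = dg F (w ^ n) := by
  rw [dg, pair_pow, mulLeft_pow, mulLeft_pow, dg, _root_.inv_pow]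

theorem dg_one : dg F (1 : K) = 1 := by
  apply LinearMap.ext
  intro v
  rw [dg_apply, inv_one, one_mul, one_mul]
  rfl

theorem dg_free {w : K} (h : w ≠ 1) : ∀ v : K × K, dg F w v = v → v = 0 := by
  intro v hv
  have h1 : w * v.1 = v.1 := congrArg Prod.fst hv
  have h2 : w⁻¹ * v.2 = v.2 := congrArg Prod.snd hv
  refine Prod.ext (mulLeft_free (F := F) h _ h1) (mulLeft_free (F := F) (fun h3 => h ?_) _ h2)
  rw [← inv_inv w, h3, inv_one]

theorem ker_dg (w : K) (P : Polynomial F) : finrank F (LinearMap.ker (Polynomial.aeval (dg F w) P)) =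
    finrank F (LinearMap.ker (LinearMap.mulLeft F (Polynomial.aeval w P) : Module.End F K)) +
      finrank F (LinearMap.ker (LinearMap.mulLeft F (Polynomial.aeval w⁻¹ P) : Module.End F K)) := by
  rw [dg, aeval_pair, ker_pair, aeval_mulLeft, aeval_mulLeft]

/-- the kernel for the minimal polynomial -/
theorem ker_dg_minpoly [Finite K] (hodd : Odd (finrank F K)) {w : K} (h0 : w ≠ 0) (h2 : w * w ≠ 1) :
    finrank F (LinearMap.ker (Polynomial.aeval (dg F w) (minpoly F w))) = finrank F K := by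
  rw [ker_dg, minpoly.aeval, ker_mulLeft_zero, ker_mulLeft_of_ne, add_zero]
  intro h
  exact h2 (sq_of_root hodd h0 h)

theorem ker_dg_of_ne {w : K} {P : Polynomial F} (h1 : Polynomial.aeval w P ≠ 0) (h2 : Polynomial.aeval w⁻¹ P ≠ 0) :
    finrank F (LinearMap.ker (Polynomial.aeval (dg F w) P)) = 0 := by
  rw [ker_dg, ker_mulLeft_of_ne h1, ker_mulLeft_of_ne h2]

end Mul

end Cfsg.Agent.H383.Cov
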