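import Cfsg.Agent.H383.Cov.PlusEl

/-!
# S2499: the elements `C` of `Ω⁺_{2m}(q)` (helper383)

* `exists_C1` : `pos m`, `m` odd; `exists_C2` : `pos c₁ + pos c₂`; `exists_C3` : `pos c + (pos c) ^ j`.
-/

set_option autoImplicit false
set_option linter.unusedSectionVars false
set_option linter.style.haveILetI false

namespace Cfsg.Agent.H383.Cov

open Module Cfsg Cfsg.Geo QuadraticMap
open Cfsg.Agent.LieClassical.OrthCore Cfsg.Agent.LieClassical.OrthForms
open Cfsg.Agent.H182.Sign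
open Cfsg.Agent.H278.Cov (Red Ext Num Av Inc NoTwo)
open Cfsg.Agent.H689 (Ppd)
open scoped MatrixGroups Matrix

/-- roots of the minimal polynomial -/
theorem eq_pow_of_root {F K : Type*} [Field F] [Fintype F] [Field K] [Finite K] [Algebra F K] {x y : K}
    (h : Polynomial.aeval y (minpoly F x) = 0) : ∃ i < finrank F K, y = x ^ (Fintype.card F ^ i) := by
  have hint : IsIntegral F x := IsIntegral.of_finite F x
  have hmin : minpoly F y = minpoly F x :=
    (minpoly.eq_of_irreducible_of_monic (minpoly.irreducible hint) h (minpoly.monic hint)).symm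
  obtain ⟨σ, hσ⟩ := (Normal.minpoly_eq_iff_mem_orbit (F := F) (E := K) (x := y) (y := x)).1 hmin
  obtain ⟨⟨i, hi⟩, hin⟩ := (FiniteField.bijective_frobeniusAlgEquivOfAlgebraic_pow F K).2 σ
  refine ⟨i, hi, ?_⟩
  have h1 : σ x = y := hσ
  rw [← h1, ← hin]
  change ((FiniteField.frobeniusAlgEquivOfAlgebraic F K) ^ i) x = _
  rw [AlgEquiv.coe_pow, FiniteField.coe_frobeniusAlgEquivOfAlgebraic_iterate]

section

variable {F : Type} [Field F] [Fintype F]

/-- `K × K` with a form of plus type and isometries -/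
theorem exists_posN {k N : ℕ} (hk : k ≠ 0) (hN : N ∣ Fintype.card F ^ k - 1) :
    ∃ (K : Type) (_ : Field K) (_ : Algebra F K) (_ : Finite K) (Q : QuadraticForm F (K × K)) (u : K),
      Sg Q k 1 ∧ finrank F K = k ∧ orderOf u = N ∧ u ≠ 0 ∧ ∀ (w : K) (_ : w ≠ 0) (v : K × K), Q (dg F w v) = Q v := by
  obtain ⟨K, _, _, _, Q, u, h1, h2, h3, h4⟩ := exists_pos F hk
  have hq : 2 ≤ Fintype.card F := Fintype.one_lt_card
  have hn : Fintype.card F ^ k - 1 ≠ 0 := by
    have := Nat.one_lt_pow hk (show 1 < Fintype.card F by omega)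
    omega
  refine ⟨K, inferInstance, inferInstance, inferInstance, Q,
    ((u ^ ((Fintype.card F ^ k - 1) / N) : Kˣ) : K), h1, h2, ?_, Units.ne_zero _, ?_⟩
  · rw [orderOf_units]
    exact exists_pow_order h3 hn hN
  · intro w hw v
    have h5 := h4 (Units.mk0 w hw) v
    rw [dg_apply]
    simpa using h5

theorem dg_pow_eq_one {K : Type*} [Field K] [Algebra F K] [Finite K] {u : K} {N : ℕ} (h : orderOf u = N) :
    (dg F u) ^ N = 1 := by
  rw [dg_pow, ← h, pow_orderOf_eq_one, dg_one]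

theorem dims_dg {K : Type} [Field K] [Algebra F K] [Finite K] {u : K} {c r : ℕ} (hu : orderOf u = r)
    (hr : Ppd (Fintype.card F) c r) (hc : 1 ≤ c) {W : Submodule F (K × K)} (hW : ∀ w ∈ W, dg F u w ∈ W) :
    c ∣ finrank F W := by
  have hf : FiniteDimensional F K := Module.Finite.of_finite
  refine dvd_of_free (x := dg F u) hr.prime (dg_pow_eq_one hu) hc ?_ ?_ hW fun w _ => ?_
  · rw [Nat.card_eq_fintype_card]; exact (hr.iff c).2 dvd_rfl
  · intro i hi hic hd
    rw [Nat.card_eq_fintype_card] at hd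
    exact absurd (Nat.le_of_dvd hi ((hr.iff i).1 hd)) (by omega)
  · exact dg_free (ne_one_of_order hu hr.prime.one_lt.ne') w

theorem sq_ne_one {G : Type*} [Monoid G] {u : G} {N : ℕ} (h : orderOf u = N) (hN : Odd N) (h1 : N ≠ 1) :
    u * u ≠ 1 := by
  intro h2
  rw [← pow_two] at h2
  have h3 := orderOf_dvd_of_pow_eq_one h2
  rw [h] at h3
  rcases (Nat.dvd_prime Nat.prime_two).1 h3 with h4 | h4
  · exact h1 h4
  · rw [h4] at hN
    exact absurd hN (by decide)

theorem ppd_odd {q k r : ℕ} (h : Ppd q k r) (hk : 3 ≤ k) : Odd r :=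
  (h.prime.eq_two_or_odd').resolve_left (by have := h.two_lt hk; omega)

theorem exists_C1 {m r : ℕ} (hm : Odd m) (h3 : 3 ≤ m) (hr : Ppd (Fintype.card F) m r) :
    ∃ C : GL (Fin m ⊕ Fin m) F, C ∈ omegaGL ⇑(plusForm m F) ∧ Odd (orderOf C) ∧
      (∃ P : Polynomial F, Odd (finrank F (LinearMap.ker (Matrix.toLin'
        (Polynomial.aeval (C : Matrix (Fin m ⊕ Fin m) (Fin m ⊕ Fin m) F) P))))) ∧
      Dims C {d | m ∣ d} := by
  have hr3 := hr.two_lt h3
  have hro : Odd r := ppd_odd hr h3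
  obtain ⟨K, _, _, _, Q, u, s1, s2, s3, s4, s5⟩ := exists_posN (F := F) (k := m) (by omega)
    ((hr.iff m).2 dvd_rfl)
  have hf : FiniteDimensional F K := Module.Finite.of_finite
  obtain ⟨C, hC, hsim⟩ := exists_sim (sg_plus (F := F) m) (by rw [card_ix]; omega) s1
    (x := dg F u) (M := r) (s5 u s4) hro (dg_pow_eq_one s3)
  refine ⟨C, hC, ?_, ⟨minpoly F u, ?_⟩, ?_⟩
  · refine Odd.of_dvd_nat hro ?_
    rw [hsim.orderOf_eq]
    exact orderOf_dvd_of_pow_eq_one (dg_pow_eq_one s3)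
  · rw [hsim.ker, ker_dg_minpoly (by rw [s2]; exact hm) s4 (sq_ne_one s3 hro (by omega)), s2]
    exact hm
  · apply hsim.dims
    intro W hW
    exact dims_dg s3 hr (by omega) hW

theorem minpoly_dvd_pow {K K' : Type*} [Field K] [Algebra F K] [Field K'] [Algebra F K'] {u : K} {v : K'} {n : ℕ}
    (hu : u ^ n = 1) (hv : Polynomial.aeval v (minpoly F u) = 0) : v ^ n = 1 := by
  have h1 : minpoly F u ∣ Polynomial.X ^ n - 1 := by
    apply minpoly.dvd
    rw [map_sub, map_pow, Polynomial.aeval_X, map_one, hu, sub_self]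
  obtain ⟨R, hR⟩ := h1
  have h2 := congrArg (Polynomial.aeval v) hR
  rw [map_mul, hv, zero_mul, map_sub, map_pow, Polynomial.aeval_X, map_one] at h2
  exact sub_eq_zero.1 h2

theorem exists_C2 {m c₁ c₂ r₁ r₂ : ℕ} (hm : c₁ + c₂ = m) (h1 : 3 ≤ c₁) (h2 : 3 ≤ c₂) (ho : Odd c₁)
    (hr₁ : Ppd (Fintype.card F) c₁ r₁) (hr₂ : Ppd (Fintype.card F) c₂ r₂) (hne : c₁ ≠ c₂) :
    ∃ C : GL (Fin m ⊕ Fin m) F, C ∈ omegaGL ⇑(plusForm m F) ∧ Odd (orderOf C) ∧
      (∃ P : Polynomial F, Odd (finrank F (LinearMap.ker (Matrix.toLin'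
        (Polynomial.aeval (C : Matrix (Fin m ⊕ Fin m) (Fin m ⊕ Fin m) F) P))))) ∧
      Dims C {d | ∃ s t : ℕ, s ≤ 2 ∧ t ≤ 2 ∧ d = c₁ * s + c₂ * t} := by
  have hne' : r₁ ≠ r₂ := by
    rintro rfl
    apply hne
    exact Nat.dvd_antisymm ((hr₁.iff c₂).1 ((hr₂.iff c₂).2 dvd_rfl)) ((hr₂.iff c₁).1 ((hr₁.iff c₁).2 dvd_rfl))
  have hco : r₁.Coprime r₂ := (Nat.coprime_primes hr₁.prime hr₂.prime).2 hne'
  have hro₁ : Odd r₁ := ppd_odd hr₁ h1
  have hro₂ : Odd r₂ := ppd_odd hr₂ h2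
  obtain ⟨K, _, _, _, Q, u, s1, s2, s3, s4, s5⟩ := exists_posN (F := F) (k := c₁) (by omega)
    ((hr₁.iff c₁).2 dvd_rfl)
  obtain ⟨K', _, _, _, Q', u', t1, t2, t3, t4, t5⟩ := exists_posN (F := F) (k := c₂) (by omega)
    ((hr₂.iff c₂).2 dvd_rfl)
  have hf : FiniteDimensional F K := Module.Finite.of_finite
  have hf' : FiniteDimensional F K' := Module.Finite.of_finite
  have hs := s1.prod t1
  rw [hm, show (1 : ℤ) * 1 = 1 by norm_num] at hs
  have p1 := dg_pow_eq_one (F := F) s3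
  have p2 := dg_pow_eq_one (F := F) t3
  have hpow : ((dg F u).prodMap (dg F u') : Module.End F ((K × K) × (K' × K'))) ^ (r₁ * r₂) = 1 := by
    rw [pair_pow, pow_mul, p1, one_pow, mul_comm, pow_mul, p2, one_pow]
    rfl
  obtain ⟨C, hC, hsim⟩ := exists_sim (sg_plus (F := F) m) (by rw [card_ix]; omega) hs
    (x := (dg F u).prodMap (dg F u')) (M := r₁ * r₂)
    (by
      intro v
      rw [prodForm_apply, prodForm_apply]
      change Q (dg F u v.1) + Q' (dg F u' v.2) = _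
      rw [s5 u s4, t5 u' t4])
    (hro₁.mul hro₂) hpow
  refine ⟨C, hC, ?_, ⟨minpoly F u, ?_⟩, ?_⟩
  · refine Odd.of_dvd_nat (hro₁.mul hro₂) ?_
    rw [hsim.orderOf_eq]
    exact orderOf_dvd_of_pow_eq_one hpow
  · rw [hsim.ker, aeval_pair, ker_pair, ker_dg_minpoly (by rw [s2]; exact ho) s4
      (sq_ne_one s3 hro₁ hr₁.prime.one_lt.ne'), s2]
    have hu : u ^ r₁ = 1 := by rw [← s3]; exact pow_orderOf_eq_one u
    have key : u' ^ r₁ ≠ 1 := by
      intro h
      have h3 := orderOf_dvd_of_pow_eq_one h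
      rw [t3] at h3
      have h4 := Nat.dvd_gcd h3 dvd_rfl
      rw [hco] at h4
      exact hr₂.prime.one_lt.ne' (Nat.dvd_one.1 h4)
    rw [ker_dg_of_ne, add_zero]
    · exact ho
    · exact fun h => key (minpoly_dvd_pow hu h)
    · intro h
      apply key
      have h3 := minpoly_dvd_pow hu h
      rw [_root_.inv_pow] at h3
      exact inv_eq_one.1 h3
  · apply hsim.dims
    intro W hW
    obtain ⟨s, hs', t, ht', hst⟩ := pair_dims (S₁ := {d | ∃ s : ℕ, s ≤ 2 ∧ d = c₁ * s})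
      (S₂ := {d | ∃ s : ℕ, s ≤ 2 ∧ d = c₂ * s}) p1 p2 hco
      (dg_free (ne_one_of_order s3 hr₁.prime.one_lt.ne'))
      (by
        intro W hW
        obtain ⟨s, hs⟩ := dims_dg s3 hr₁ (by omega) hW
        refine ⟨s, ?_, hs⟩
        have h3 := Submodule.finrank_le W
        rw [Module.finrank_prod, s2, hs] at h3
        exact Nat.le_of_mul_le_mul_left (by omega : c₁ * s ≤ c₁ * 2) (by omega))
      (by
        intro W hW
        obtain ⟨s, hs⟩ := dims_dg t3 hr₂ (by omega) hW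
        refine ⟨s, ?_, hs⟩
        have h3 := Submodule.finrank_le W
        rw [Module.finrank_prod, t2, hs] at h3
        exact Nat.le_of_mul_le_mul_left (by omega : c₂ * s ≤ c₂ * 2) (by omega)) hW
    obtain ⟨s', h3, h4⟩ := hs'
    obtain ⟨t', h5, h6⟩ := ht'
    exact ⟨s', t', h3, h5, by rw [hst, h4, h6]⟩

theorem exists_C3 {m c r N j : ℕ} (hm : c + c = m) (h1 : 3 ≤ c) (ho : Odd c) (hr : Ppd (Fintype.card F) c r)
    (hN : N ∣ Fintype.card F ^ c - 1) (hNo : Odd N) (hrN : r ∣ N) (hj : ¬ r ∣ j)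
    (hn1 : ∀ i < c, ¬ ((Fintype.card F ^ i : ℕ) ≡ j [MOD N])) (hn2 : ∀ i < c, ¬ N ∣ Fintype.card F ^ i + j) :
    ∃ C : GL (Fin m ⊕ Fin m) F, C ∈ omegaGL ⇑(plusForm m F) ∧ Odd (orderOf C) ∧
      (∃ P : Polynomial F, Odd (finrank F (LinearMap.ker (Matrix.toLin'
        (Polynomial.aeval (C : Matrix (Fin m ⊕ Fin m) (Fin m ⊕ Fin m) F) P))))) ∧
      Dims C {d | c ∣ d} := by
  obtain ⟨K, _, _, _, Q, u, s1, s2, s3, s4, s5⟩ := exists_posN (F := F) (k := c) (by omega) hN
  have hf : FiniteDimensional F K := Module.Finite.of_finite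
  have hs := s1.prod s1
  rw [hm, show (1 : ℤ) * 1 = 1 by norm_num] at hs
  have huN : u ^ N = 1 := by rw [← s3]; exact pow_orderOf_eq_one u
  have p1 := dg_pow_eq_one (F := F) s3
  have p2 : (dg F (u ^ j)) ^ N = 1 := by
    rw [dg_pow, ← pow_mul, mul_comm, pow_mul, huN, one_pow, dg_one]
  have hpow : ((dg F u).prodMap (dg F (u ^ j)) : Module.End F ((K × K) × (K × K))) ^ N = 1 := by
    rw [pair_pow, p1, p2]
    rfl
  have hN0 : N ≠ 0 := fun h => by rw [h] at hNo; exact absurd hNo (by decide)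
  have hN1 : N ≠ 1 := by
    intro h
    rw [h] at hrN
    exact hr.prime.one_lt.ne' (Nat.dvd_one.1 hrN)
  obtain ⟨C, hC, hsim⟩ := exists_sim (sg_plus (F := F) m) (by rw [card_ix]; omega) hs
    (x := (dg F u).prodMap (dg F (u ^ j))) (M := N)
    (by
      intro v
      rw [prodForm_apply, prodForm_apply]
      change Q (dg F u v.1) + Q (dg F (u ^ j) v.2) = _
      rw [s5 u s4, s5 _ (pow_ne_zero _ s4)])
    hNo hpow
  refine ⟨C, hC, ?_, ⟨minpoly F u, ?_⟩, ?_⟩
  · refine Odd.of_dvd_nat hNo ?_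
    rw [hsim.orderOf_eq]
    exact orderOf_dvd_of_pow_eq_one hpow
  · rw [hsim.ker, aeval_pair, ker_pair, ker_dg_minpoly (by rw [s2]; exact ho) s4 (sq_ne_one s3 hNo hN1), s2]
    rw [ker_dg_of_ne, add_zero]
    · exact ho
    · intro h
      obtain ⟨i, hi, hu⟩ := eq_pow_of_root h
      rw [s2] at hi
      apply hn1 i hi
      have hu' : (Units.mk0 u s4) ^ j = (Units.mk0 u s4) ^ (Fintype.card F ^ i) := Units.ext (by simpa using hu)
      have h3 := pow_inj_mod.1 hu'
      rw [← orderOf_units, Units.val_mk0, s3] at h3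
      exact h3.symm
    · intro h
      obtain ⟨i, hi, hu⟩ := eq_pow_of_root h
      rw [s2] at hi
      apply hn2 i hi
      rw [← s3]
      apply orderOf_dvd_of_pow_eq_one
      rw [pow_add, ← hu]
      exact inv_mul_cancel₀ (pow_ne_zero _ s4)
  · apply hsim.dims
    intro W hW
    obtain ⟨k, hk⟩ := hrN
    have hk0 : k ≠ 0 := fun h => hN0 (by rw [hk, h, mul_zero])
    have hko : orderOf (u ^ k) = r := by
      rw [orderOf_pow_of_dvd hk0 (by rw [s3, hk]; exact dvd_mul_left _ _), s3, hk,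
        Nat.mul_div_cancel _ (Nat.pos_of_ne_zero hk0)]
    have hW' := inv_pow hW k
    rw [pair_pow, dg_pow, dg_pow] at hW'
    refine dvd_of_free (x := (dg F (u ^ k)).prodMap (dg F ((u ^ j) ^ k))) hr.prime ?_ (by omega) ?_ ?_ hW' ?_
    · have h3 : ((u ^ j) ^ k) ^ r = 1 := by
        rw [← pow_mul, ← pow_mul, show j * (k * r) = N * j by rw [hk]; ring, pow_mul, huN, one_pow]
      rw [pair_pow, dg_pow_eq_one hko, dg_pow, h3, dg_one]
      rfl
    · rw [Nat.card_eq_fintype_card]; exact (hr.iff c).2 dvd_rfl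
    · intro i hi hic hd
      rw [Nat.card_eq_fintype_card] at hd
      exact absurd (Nat.le_of_dvd hi ((hr.iff i).1 hd)) (by omega)
    · intro w _ hw
      have e1 : dg F (u ^ k) w.1 = w.1 := congrArg Prod.fst hw
      have e2 : dg F ((u ^ j) ^ k) w.2 = w.2 := congrArg Prod.snd hw
      refine Prod.ext (dg_free (ne_one_of_order hko hr.prime.one_lt.ne') _ e1) (dg_free ?_ _ e2)
      intro h
      rw [← pow_mul, mul_comm, pow_mul] at h
      have h3 := orderOf_dvd_of_pow_eq_one h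
      rw [hko] at h3
      exact hj h3

end

end Cfsg.Agent.H383.Cov
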