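import Cfsg.Agent.H383.Cov.Pair

/-!
# S2499: the elements of `Ω⁺_{2m}(q)` (helper383)

* `exists_A` : `neg a + neg e`, irreducible on both blocks; `exists_B` : `neg b +` trivial;
* `exists_C1` : `pos m`, `m` odd; `exists_C2` : `pos c₁ + pos c₂`; `exists_C3` : `pos c + (pos c) ^ j`.
-/

set_option autoImplicit false
set_option linter.unusedSectionVars false
set_option linter.style.haveILetI false

namespace Cfsg.Agent.H383.Cov

open Module Cfsg Cfsg.Geo QuadraticMap
open Cfsg.Agent.LieClassical.OrthCore Cfsg.Agent.LieClassical.OrthForms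
open Cfsg.Agent.H182.Sign
open Cfsg.Agent.H278.Cov (Red Ext Num Av Inc NoTwo)
open Cfsg.Agent.H689 (Ppd)
open scoped MatrixGroups Matrix

theorem num_odd {q n k M : ℕ} (hq : 2 ≤ q) (hk : 2 ≤ k) (h : Num q n k M) : Odd M := by
  by_contra hcon
  rw [Nat.not_odd_iff_even] at hcon
  have h2 : 2 ∣ M := hcon.two_dvd
  have h3 : ¬ 2 ∣ q ^ 1 - 1 := by
    intro h4
    have h5 := Nat.dvd_gcd h2 h4
    rw [h.prim 1 le_rfl (by omega)] at h5
    omega
  rw [pow_one] at h3
  have h4 : 2 ∣ q := by omega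
  have h5 : 2 ∣ q ^ k - 1 := h2.trans h.dvd
  have h6 : 2 ∣ q ^ k := dvd_pow h4 (by omega)
  have h7 : 0 < q ^ k := pow_pos (by omega) _
  omega

theorem num_dvd {q n a M : ℕ} (ha : 1 ≤ a) (h : Num q n (2 * a) M) : M ∣ q ^ a + 1 := by
  have h1 : q ^ (2 * a) - 1 = (q ^ a + 1) * (q ^ a - 1) := by
    have := Nat.sq_sub_sq (q ^ a) 1
    rw [one_pow, ← pow_mul, mul_comm a 2] at this
    exact this
  have h2 := h.dvd
  rw [h1] at h2
  exact Nat.Coprime.dvd_of_dvd_mul_right (h.prim a ha (by omega)) h2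

theorem coprime_q {q a M : ℕ} (ha : 1 ≤ a) (h : M ∣ q ^ a + 1) : M.Coprime q := by
  have h1 : (q ^ a + 1).Coprime q := by
    obtain ⟨k, rfl⟩ : ∃ k, a = k + 1 := ⟨a - 1, by omega⟩
    rw [pow_succ, Nat.coprime_mul_right_add_left, ]
    exact Nat.coprime_one_left q
  exact Nat.Coprime.coprime_dvd_left h h1

theorem exists_pow_order {G : Type*} [Monoid G] {u : G} {n N : ℕ} (hu : orderOf u = n) (hn : n ≠ 0) (hN : N ∣ n) :
    orderOf (u ^ (n / N)) = N := by
  have hN0 : N ≠ 0 := fun h => hn (by rw [h] at hN; exact zero_dvd_iff.1 hN)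
  obtain ⟨k, hk⟩ := hN
  have hk0 : k ≠ 0 := fun h => hn (by rw [hk, h, mul_zero])
  rw [orderOf_pow_of_dvd, hu]
  · rw [hk, Nat.mul_div_cancel_left _ (Nat.pos_of_ne_zero hN0), Nat.mul_div_cancel _ (Nat.pos_of_ne_zero hk0)]
  · rw [hk, Nat.mul_div_cancel_left _ (Nat.pos_of_ne_zero hN0)]
    exact hk0
  · rw [hu, hk, Nat.mul_div_cancel_left _ (Nat.pos_of_ne_zero hN0)]
    exact dvd_mul_left _ _

section

variable {F : Type} [Field F] [Fintype F]

/-- a field with a form of minus type and an isometry of order `N` given by a multiplication -/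
theorem exists_negN {k N : ℕ} (hk : k ≠ 0) (hN : N ∣ Fintype.card F ^ k + 1) :
    ∃ (L : Type) (_ : Field L) (_ : Algebra F L) (_ : Finite L) (Q : QuadraticForm F L) (u : L),
      Sg Q k (-1) ∧ finrank F L = 2 * k ∧ orderOf u = N ∧ u ≠ 0 ∧ ∀ v, Q (u * v) = Q v := by
  obtain ⟨L, _, _, _, Q, u, h1, h2, h3, h4⟩ := exists_neg F hk
  have hu0 : u ≠ 0 := by
    rintro rfl
    rw [orderOf_zero] at h3
    omega
  refine ⟨L, inferInstance, inferInstance, inferInstance, Q, u ^ ((Fintype.card F ^ k + 1) / N), h1, h2,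
    exists_pow_order h3 (by omega) hN, pow_ne_zero _ hu0, ?_⟩
  have h5 : ∀ n : ℕ, ∀ v, Q (u ^ n * v) = Q v := by
    intro n
    induction n with
    | zero => intro v; rw [pow_zero, one_mul]
    | succ n ih => intro v; rw [pow_succ, mul_assoc, ih, h4]
  exact h5 _

theorem ne_one_of_order {G : Type*} [Monoid G] {u : G} {N : ℕ} (h : orderOf u = N) (hN : N ≠ 1) : u ≠ 1 := by
  rintro rfl
  rw [orderOf_one] at h
  exact hN h.symm

theorem sg_plus (m : ℕ) : Sg (plusForm m F) m 1 := sg_plusForm m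

theorem card_ix (m : ℕ) : Fintype.card (Fin m ⊕ Fin m) = 2 * m := by
  rw [Fintype.card_sum, Fintype.card_fin]; ring

theorem numEl_of {ι : Type} [Fintype ι] [DecidableEq ι] {V L : Type} [AddCommGroup V] [Module F V] [Finite V]
    [Field L] [Algebra F L] [Finite L] {a M : ℕ} (ha : 1 ≤ a) (hM : Num (Fintype.card F) (Fintype.card ι) (2 * a) M)
    {u : L} (hu : orderOf u = M) (hL : finrank F L = 2 * a) {X : GL ι F}
    (hX : Sim X ((LinearMap.mulLeft F u : Module.End F L).prodMap (1 : Module.End F V))) : NumEl a X := by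
  have hfL : FiniteDimensional F L := Module.Finite.of_finite
  have hfV : FiniteDimensional F V := Module.Finite.of_finite
  have hq : 2 ≤ Fintype.card F := Fintype.one_lt_card
  have hd := num_dvd ha hM
  have ho := num_odd hq (by omega) hM
  have hM1 : M ≠ 1 := by
    have := hM.big
    omega
  have hoX : orderOf X = M := by
    rw [hX.orderOf_eq, ← hu, ← orderOf_mulLeft (F := F) u]
    apply Nat.dvd_antisymm
    · apply orderOf_dvd_of_pow_eq_one
      rw [pair_pow, pow_orderOf_eq_one, one_pow]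
      rfl
    · apply orderOf_dvd_of_pow_eq_one
      have h1 := pow_orderOf_eq_one ((LinearMap.mulLeft F u : Module.End F L).prodMap (1 : Module.End F V))
      rw [pair_pow] at h1
      apply LinearMap.ext
      intro v
      exact congrArg (fun f : Module.End F (L × V) => (f (v, 0)).1) h1
  refine ⟨by rw [hoX]; exact hM, ⟨?_, ?_, ?_⟩, by rw [hoX]; exact ho, ?_⟩
  · rw [hoX, Nat.card_eq_fintype_card]
    exact coprime_q ha hd
  · intro i hi hk
    rw [hoX, Nat.card_eq_fintype_card]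
    exact hM.prim i hi hk
  · rw [hX.rk, range_pair (mulLeft_free (ne_one_of_order hu hM1)), hL]
  · rw [hoX, Nat.card_eq_fintype_card]
    exact hd

theorem exists_A {m a e M N : ℕ} (hm : a + e = m) (h5 : 3 ≤ m) (ha : a ≠ 0) (he : e ≠ 0)
    (hM : Num (Fintype.card F) (2 * m) (2 * a) M) (hN : N ∣ Fintype.card F ^ e + 1) (hNo : Odd N)
    (hN1 : ∀ j, 1 ≤ j → j < 2 * e → ¬ N ∣ Fintype.card F ^ j - 1) (hc : M.Coprime N) :
    ∃ A : GL (Fin m ⊕ Fin m) F, A ∈ omegaGL ⇑(plusForm m F) ∧ (∃ i, NumEl a (A ^ i)) ∧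
      Dims A {0, 2 * e, 2 * a, 2 * m} := by
  have hq : 2 ≤ Fintype.card F := Fintype.one_lt_card
  have hMd := num_dvd (by omega) hM
  have hMo := num_odd hq (by omega) hM
  obtain ⟨L, _, _, _, Q, u, s1, s2, s3, s4, s5⟩ := exists_negN (F := F) ha hMd
  obtain ⟨L', _, _, _, Q', u', t1, t2, t3, t4, t5⟩ := exists_negN (F := F) he hN
  have hfL : FiniteDimensional F L := Module.Finite.of_finite
  have hfL' : FiniteDimensional F L' := Module.Finite.of_finite
  have hs := s1.prod t1
  rw [hm, show (-1 : ℤ) * -1 = 1 by norm_num] at hs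
  have hM1 : M ≠ 1 := by
    have := hM.big
    omega
  have hN11 : N ≠ 1 := by
    rintro rfl
    exact hN1 1 le_rfl (by omega) (one_dvd _)
  have p1 : (LinearMap.mulLeft F u : Module.End F L) ^ M = 1 := by
    rw [mulLeft_pow, mulLeft_eq_one, ← s3, pow_orderOf_eq_one]
  have p2 : (LinearMap.mulLeft F u' : Module.End F L') ^ N = 1 := by
    rw [mulLeft_pow, mulLeft_eq_one, ← t3, pow_orderOf_eq_one]
  obtain ⟨A, hA, hsim⟩ := exists_sim (sg_plus (F := F) m) (by rw [card_ix]; omega) hs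
    (x := (LinearMap.mulLeft F u).prodMap (LinearMap.mulLeft F u')) (M := M * N)
    (by
      intro v
      rw [prodForm_apply, prodForm_apply]
      change Q (u * v.1) + Q' (u' * v.2) = _
      rw [s5, t5])
    (hMo.mul hNo)
    (by
      rw [pair_pow, pow_mul, p1, one_pow, mul_comm, pow_mul, p2, one_pow]
      rfl)
  refine ⟨A, hA, ?_, ?_⟩
  · obtain ⟨j, hj1, hj2⟩ := exists_pow_left p1 p2 hc
    refine ⟨j, numEl_of (V := L') (by omega) (by rw [card_ix]; exact hM) s3 s2 ?_⟩
    have h1 := hsim.pow j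
    rw [pair_pow, hj1, hj2] at h1
    exact h1
  · apply hsim.dims
    intro W hW
    have hcase : ∀ {K : Type} [Field K] [Algebra F K] [Finite K] {w : K} {d : ℕ}, finrank F K = d → w ≠ 0 →
        (∀ j, 1 ≤ j → j < d → ¬ orderOf w ∣ Fintype.card F ^ j - 1) →
        ∀ W : Submodule F K, (∀ v ∈ W, LinearMap.mulLeft F w v ∈ W) → finrank F W ∈ ({0, d} : Set ℕ) := by
      intro K _ _ _ w d hd h0 h W hW
      rcases irr_mul (F := F) (ζ := w) (by rw [hd, Nat.card_eq_fintype_card]; exact h) h0 hW with rfl | rfl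
      · left; exact finrank_bot F K
      · right; rw [finrank_top]; exact hd
    obtain ⟨s, hs', t, ht', hst⟩ := pair_dims p1 p2 hc (mulLeft_free (ne_one_of_order s3 hM1))
      (hcase s2 s4 (by
        intro j hj hjl hd
        rw [s3] at hd
        have h1 := hM.prim j hj hjl
        have h2 := Nat.dvd_gcd dvd_rfl hd
        rw [h1] at h2
        exact hM1 (Nat.dvd_one.1 h2)))
      (hcase t2 t4 (by rw [t3]; exact hN1)) hW
    rw [hst]
    simp only [Set.mem_insert_iff, Set.mem_singleton_iff] at hs' ht' ⊢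
    omega

theorem exists_B {m b f M : ℕ} (hm : b + f = m) (h5 : 3 ≤ m) (hb : b ≠ 0) (hf : f ≠ 0)
    (hM : Num (Fintype.card F) (2 * m) (2 * b) M) :
    ∃ B : GL (Fin m ⊕ Fin m) F, B ∈ omegaGL ⇑(plusForm m F) ∧ (∃ i, NumEl b (B ^ i)) ∧
      Dims B {d | d ≤ 2 * f ∨ 2 * b ≤ d} := by
  have hq : 2 ≤ Fintype.card F := Fintype.one_lt_card
  have hMd := num_dvd (by omega) hM
  have hMo := num_odd hq (by omega) hM
  obtain ⟨L, _, _, _, Q, u, s1, s2, s3, s4, s5⟩ := exists_negN (F := F) hb hMd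
  obtain ⟨L', _, _, _, Q', u', t1, t2, t3, t4, t5⟩ := exists_negN (F := F) hf (one_dvd _)
  have hfL : FiniteDimensional F L := Module.Finite.of_finite
  have hfL' : FiniteDimensional F L' := Module.Finite.of_finite
  have hs := s1.prod t1
  rw [hm, show (-1 : ℤ) * -1 = 1 by norm_num] at hs
  have hM1 : M ≠ 1 := by
    have := hM.big
    omega
  have p1 : (LinearMap.mulLeft F u : Module.End F L) ^ M = 1 := by
    rw [mulLeft_pow, mulLeft_eq_one, ← s3, pow_orderOf_eq_one]
  have p2 : (1 : Module.End F L') ^ 1 = 1 := one_pow _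
  obtain ⟨B, hB, hsim⟩ := exists_sim (sg_plus (F := F) m) (by rw [card_ix]; omega) hs
    (x := (LinearMap.mulLeft F u).prodMap 1) (M := M)
    (by
      intro v
      rw [prodForm_apply, prodForm_apply]
      change Q (u * v.1) + Q' v.2 = _
      rw [s5])
    hMo
    (by
      rw [pair_pow, p1, one_pow]
      rfl)
  refine ⟨B, hB, ⟨1, ?_⟩, ?_⟩
  · rw [pow_one]
    exact numEl_of (V := L') (by omega) (by rw [card_ix]; exact hM) s3 s2 hsim
  · apply hsim.dims
    intro W hW
    have hcase : ∀ {K : Type} [Field K] [Algebra F K] [Finite K] {w : K} {d : ℕ}, finrank F K = d → w ≠ 0 →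
        (∀ j, 1 ≤ j → j < d → ¬ orderOf w ∣ Fintype.card F ^ j - 1) →
        ∀ W : Submodule F K, (∀ v ∈ W, LinearMap.mulLeft F w v ∈ W) → finrank F W ∈ ({0, d} : Set ℕ) := by
      intro K _ _ _ w d hd h0 h W hW
      rcases irr_mul (F := F) (ζ := w) (by rw [hd, Nat.card_eq_fintype_card]; exact h) h0 hW with rfl | rfl
      · left; exact finrank_bot F K
      · right; rw [finrank_top]; exact hd
    obtain ⟨s, hs', t, ht', hst⟩ := pair_dims (S₂ := {d | d ≤ 2 * f}) p1 p2 (Nat.coprime_one_right M)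
      (mulLeft_free (ne_one_of_order s3 hM1))
      (hcase s2 s4 (by
        intro j hj hjl hd
        rw [s3] at hd
        have h1 := hM.prim j hj hjl
        have h2 := Nat.dvd_gcd dvd_rfl hd
        rw [h1] at h2
        exact hM1 (Nat.dvd_one.1 h2)))
      (by
        intro W _
        rw [Set.mem_ofPred_eq, ← t2]
        exact Submodule.finrank_le W) hW
    rw [hst]
    simp only [Set.mem_insert_iff, Set.mem_singleton_iff, Set.mem_ofPred_eq] at hs' ht' ⊢
    omega

end

end Cfsg.Agent.H383.Cov
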