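import Cfsg.Agent.H383.Cov.Model

/-!
# S2499, orthogonal families: from endomorphisms of models to elements of `omegaGL` (helper383)

* `Sim X x`, `Dims X S`; `exists_sim` : an isometry of odd order of a form of the same dimension and type gives an
  element of `omegaGL Q`.
-/

set_option autoImplicit false
set_option linter.unusedSectionVars false
set_option linter.style.haveILetI false

namespace Cfsg.Agent.H383.Cov

open Module Cfsg Cfsg.Geo QuadraticMap
open Cfsg.Agent.LieClassical.OrthCore Cfsg.Agent.LieClassical.OrthForms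
open Cfsg.Agent.H182.Sign
open scoped MatrixGroups Matrix

variable {ι : Type} [Fintype ι] [DecidableEq ι] {F : Type} [Field F] [Finite F]

/-- all subspaces invariant under `X` have dimension in `S` -/
def Dims (X : GL ι F) (S : Set ℕ) : Prop :=
  ∀ W : Submodule F (ι → F), (∀ w ∈ W, (X : Matrix ι ι F) *ᵥ w ∈ W) → finrank F W ∈ S

theorem Dims.conj {X : GL ι F} {S : Set ℕ} (h : Dims X S) (g : GL ι F) : Dims (g * X * g⁻¹) S := by
  intro W hW
  have h1 := h (W.comap (eqv g : (ι → F) →ₗ[F] (ι → F))) (by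
    intro w hw
    rw [Submodule.mem_comap] at hw ⊢
    change (g : Matrix ι ι F) *ᵥ w ∈ W at hw
    change (g : Matrix ι ι F) *ᵥ ((X : Matrix ι ι F) *ᵥ w) ∈ W
    have h2 := hW _ hw
    rw [Units.val_mul, Units.val_mul, Matrix.mulVec_mulVec, mul_assoc, ← Units.val_mul g⁻¹ g, inv_mul_cancel,
      Units.val_one, mul_one, ← Matrix.mulVec_mulVec] at h2
    exact h2)
  rw [Submodule.comap_equiv_eq_map_symm] at h1
  rwa [LinearEquiv.finrank_map_eq (eqv g).symm W] at h1

section Sim

variable {V : Type*} [AddCommGroup V] [Module F V]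

/-- `X` is the matrix of `x` in some basis -/
def Sim (X : GL ι F) (x : Module.End F V) : Prop :=
  ∃ e : (ι → F) ≃ₗ[F] V, ∀ v, e ((X : Matrix ι ι F) *ᵥ v) = x (e v)

theorem Sim.pow {X : GL ι F} {x : Module.End F V} (h : Sim X x) (n : ℕ) : Sim (X ^ n) (x ^ n) := by
  obtain ⟨e, he⟩ := h
  refine ⟨e, ?_⟩
  induction n with
  | zero => intro v; rw [pow_zero, pow_zero, Units.val_one, Matrix.one_mulVec]; rfl
  | succ n ih =>
    intro v
    rw [pow_succ', pow_succ', Units.val_mul, ← Matrix.mulVec_mulVec, he, ih, Module.End.mul_apply]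

theorem Sim.eq_one_iff {X : GL ι F} {x : Module.End F V} (h : Sim X x) : X = 1 ↔ x = 1 := by
  obtain ⟨e, he⟩ := h
  constructor
  · rintro rfl
    apply LinearMap.ext
    intro v
    have h1 := he (e.symm v)
    rw [Units.val_one, Matrix.one_mulVec, e.apply_symm_apply] at h1
    exact h1.symm
  · rintro rfl
    apply Units.ext
    apply Matrix.toLin'.injective
    apply LinearMap.ext
    intro v
    apply e.injective
    rw [Matrix.toLin'_apply, Matrix.toLin'_apply, Units.val_one, Matrix.one_mulVec, he]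
    rfl

theorem Sim.pow_eq_one_iff {X : GL ι F} {x : Module.End F V} (h : Sim X x) (n : ℕ) : X ^ n = 1 ↔ x ^ n = 1 :=
  (h.pow n).eq_one_iff

theorem Sim.orderOf_eq {X : GL ι F} {x : Module.End F V} (h : Sim X x) : orderOf X = orderOf x :=
  Nat.dvd_antisymm (orderOf_dvd_of_pow_eq_one ((h.pow_eq_one_iff _).2 (pow_orderOf_eq_one x)))
    (orderOf_dvd_of_pow_eq_one ((h.pow_eq_one_iff _).1 (pow_orderOf_eq_one X)))

theorem Sim.dims {X : GL ι F} {x : Module.End F V} (h : Sim X x) {S : Set ℕ}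
    (hS : ∀ W : Submodule F V, (∀ w ∈ W, x w ∈ W) → finrank F W ∈ S) : Dims X S := by
  obtain ⟨e, he⟩ := h
  intro W hW
  rw [← LinearEquiv.finrank_map_eq e W]
  apply hS
  rintro _ ⟨w, hw, rfl⟩
  exact ⟨_, hW w hw, he w⟩

theorem Sim.rk {X : GL ι F} {x : Module.End F V} (h : Sim X x) :
    finrank F (LinearMap.range (Matrix.toLin' (X : Matrix ι ι F) - 1)) = finrank F (LinearMap.range (x - 1)) := by
  obtain ⟨e, he⟩ := h
  rw [← LinearEquiv.finrank_map_eq e]
  have h1 : (LinearMap.range (Matrix.toLin' (X : Matrix ι ι F) - 1)).map (e : (ι → F) →ₗ[F] V) =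
      LinearMap.range (x - 1) := by
    apply le_antisymm
    · rintro _ ⟨_, ⟨v, rfl⟩, rfl⟩
      refine ⟨e v, ?_⟩
      change x (e v) - e v = e ((X : Matrix ι ι F) *ᵥ v - v)
      rw [map_sub, he]
    · rintro _ ⟨v, rfl⟩
      refine ⟨_, ⟨e.symm v, rfl⟩, ?_⟩
      change e ((X : Matrix ι ι F) *ᵥ (e.symm v) - e.symm v) = x v - v
      rw [map_sub, he, e.apply_symm_apply]
  rw [h1]

theorem Sim.aeval {X : GL ι F} {x : Module.End F V} {e : (ι → F) ≃ₗ[F] V}
    (he : ∀ v, e ((X : Matrix ι ι F) *ᵥ v) = x (e v)) (P : Polynomial F) (v : ι → F) :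
    e (Polynomial.aeval (X : Matrix ι ι F) P *ᵥ v) = Polynomial.aeval x P (e v) := by
  induction P using Polynomial.induction_on' with
  | add p q hp hq => rw [map_add, map_add, Matrix.add_mulVec, map_add, hp, hq, LinearMap.add_apply]
  | monomial n a =>
    rw [Polynomial.aeval_monomial, Polynomial.aeval_monomial]
    have h1 : ∀ n : ℕ, ∀ v, e ((X : Matrix ι ι F) ^ n *ᵥ v) = (x ^ n) (e v) := by
      intro n
      induction n with
      | zero => intro v; rw [pow_zero, pow_zero, Matrix.one_mulVec]; rfl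
      | succ n ih => intro v; rw [pow_succ', pow_succ', ← Matrix.mulVec_mulVec, he, ih, Module.End.mul_apply]
    rw [← Algebra.smul_def, ← Algebra.smul_def, Matrix.smul_mulVec, map_smul, h1, LinearMap.smul_apply]

theorem Sim.ker {X : GL ι F} {x : Module.End F V} (h : Sim X x) (P : Polynomial F) :
    finrank F (LinearMap.ker (Matrix.toLin' (Polynomial.aeval (X : Matrix ι ι F) P))) =
      finrank F (LinearMap.ker (Polynomial.aeval x P)) := by
  obtain ⟨e, he⟩ := h
  rw [← LinearEquiv.finrank_map_eq e]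
  have h1 : (LinearMap.ker (Matrix.toLin' (Polynomial.aeval (X : Matrix ι ι F) P))).map (e : (ι → F) →ₗ[F] V) =
      LinearMap.ker (Polynomial.aeval x P) := by
    apply le_antisymm
    · rintro _ ⟨v, hv, rfl⟩
      rw [SetLike.mem_coe, LinearMap.mem_ker, Matrix.toLin'_apply] at hv
      rw [LinearMap.mem_ker]
      change Polynomial.aeval x P (e v) = 0
      rw [← Sim.aeval he, hv, map_zero]
    · intro v hv
      refine ⟨e.symm v, ?_, e.apply_symm_apply v⟩
      rw [SetLike.mem_coe, LinearMap.mem_ker, Matrix.toLin'_apply]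
      apply e.injective
      rw [Sim.aeval he, e.apply_symm_apply, map_zero]
      exact hv
  rw [h1]

end Sim

theorem mem_omegaGL_of_odd {Q : QuadraticForm F (ι → F)} (hQ : Nondeg Q) (h5 : 5 ≤ Fintype.card ι) {X : GL ι F}
    (hX : X ∈ isometryGroup F ⇑Q) {M : ℕ} (hM : Odd M) (hXM : X ^ M = 1) : X ∈ omegaGL ⇑Q := by
  obtain ⟨k, rfl⟩ := hM
  have h1 : X = X ^ (k + 1) * X ^ (k + 1) := by
    rw [← pow_add, show k + 1 + (k + 1) = 2 * k + 1 + 1 by ring, pow_succ, hXM, one_mul]
  let g : isometryGroup F ⇑Q := ⟨X ^ (k + 1), (isometryGroup F ⇑Q).pow_mem hX _⟩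
  refine ⟨g * g, Cfsg.Agent.H377.mul_self_mem_Omega Q hQ h5 g, ?_⟩
  rw [h1]
  rfl

/-- elements of `omegaGL Q` from isometries of odd order of another model -/
theorem exists_sim {Q : QuadraticForm F (ι → F)} {n : ℕ} {ε : ℤ} (hQ : Sg Q n ε) (h5 : 5 ≤ Fintype.card ι)
    {V : Type} [AddCommGroup V] [Module F V] [Finite V] {Q' : QuadraticForm F V} (hQ' : Sg Q' n ε)
    {x : Module.End F V} (hx : ∀ v, Q' (x v) = Q' v) {M : ℕ} (hM : Odd M) (hxM : x ^ M = 1) :
    ∃ X : GL ι F, X ∈ omegaGL ⇑Q ∧ Sim X x := by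
  obtain ⟨e, he⟩ := Sg.exists_equiv hQ hQ'
  have hM0 : M ≠ 0 := fun h => by rw [h] at hM; exact absurd hM (by decide)
  let φ : Module.End F V ≃ₐ[F] Matrix ι ι F := (e.symm.conjAlgEquiv F).trans LinearMap.toMatrixAlgEquiv'
  have hφ : ∀ (S : Module.End F V) (v : ι → F), (φ S).mulVec v = e.symm (S (e v)) := by
    intro S v
    show (LinearMap.toMatrix' (e.symm.conj S)).mulVec v = _
    rw [LinearMap.toMatrix'_mulVec]
    rfl
  have hunit : IsUnit (φ x) := by
    apply IsUnit.of_pow_eq_one (n := M) _ hM0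
    rw [← map_pow, hxM, map_one]
  obtain ⟨X, hX⟩ := hunit
  have hsim : ∀ v, e ((X : Matrix ι ι F) *ᵥ v) = x (e v) := by
    intro v
    rw [hX, hφ, e.apply_symm_apply]
  have hmem : X ∈ isometryGroup F ⇑Q := by
    rw [Cfsg.Agent.LieClassical.OrthFinite.mem_isometryGroup_iff]
    intro v
    rw [← he, hsim, hx, he]
  refine ⟨X, mem_omegaGL_of_odd hQ.nondeg h5 hmem hM ?_, e, hsim⟩
  exact (Sim.pow_eq_one_iff ⟨e, hsim⟩ M).2 hxM

end Cfsg.Agent.H383.Cov
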