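import Cfsg.Agent.H383.Cov.PlusC

/-!
# S2499: three elements of `Ω⁺₁₀(q)` (helper383)

* `exA` : `neg 4 +` trivial, `exB` : `neg 3 + neg 2`, `exC` : `pos 5` of order `N`.
-/

set_option autoImplicit false
set_option linter.unusedSectionVars false
set_option linter.style.haveILetI false

namespace Cfsg.Agent.H383.Cov.Ten

open Module Cfsg Cfsg.Geo QuadraticMap
open Cfsg.Agent.LieClassical.OrthCore Cfsg.Agent.LieClassical.OrthForms
open Cfsg.Agent.H182.Sign
open Cfsg.Agent.H278.Cov (Red Ext Num Av Inc NoTwo)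
open Cfsg.Agent.H689 (Ppd)
open scoped MatrixGroups Matrix

variable {ι : Type} [Fintype ι] [DecidableEq ι] {F : Type} [Field F] [Fintype F]

theorem irr_case {K : Type} [Field K] [Algebra F K] [Finite K] {w : K} {d : ℕ} (hd : finrank F K = d) (h0 : w ≠ 0)
    (h : ∀ j, 1 ≤ j → j < d → ¬ orderOf w ∣ Fintype.card F ^ j - 1) (W : Submodule F K)
    (hW : ∀ v ∈ W, LinearMap.mulLeft F w v ∈ W) : finrank F W ∈ ({0, d} : Set ℕ) := by
  have hfL : FiniteDimensional F K := Module.Finite.of_finite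
  rcases irr_mul (F := F) (ζ := w) (by rw [hd, Nat.card_eq_fintype_card]; exact h) h0 hW with rfl | rfl
  · left; exact finrank_bot F K
  · right; rw [finrank_top]; exact hd

theorem exA {Q : QuadraticForm F (ι → F)} (hQ : Sg Q 5 1) (hι : Fintype.card ι = 10) {M : ℕ}
    (hM : Num (Fintype.card F) 10 8 M) :
    ∃ A : GL ι F, A ∈ omegaGL ⇑Q ∧ NumEl 4 A ∧ Dims A {d | d ≤ 2 ∨ 8 ≤ d} := by
  have hq : 2 ≤ Fintype.card F := Fintype.one_lt_card
  have hMd : M ∣ Fintype.card F ^ 4 + 1 := num_dvd (by norm_num) (show Num (Fintype.card F) 10 (2 * 4) M from hM)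
  have hMo := num_odd hq (by omega) hM
  obtain ⟨L, _, _, _, Q', u, s1, s2, s3, s4, s5⟩ := exists_negN (F := F) (k := 4) (by norm_num) hMd
  obtain ⟨L', _, _, _, Q'', u', t1, t2, t3, t4, t5⟩ := exists_negN (F := F) (k := 1) (by norm_num) (one_dvd _)
  have hfL : FiniteDimensional F L := Module.Finite.of_finite
  have hfL' : FiniteDimensional F L' := Module.Finite.of_finite
  have hs := s1.prod t1
  rw [show (-1 : ℤ) * -1 = 1 by norm_num] at hs
  have hM1 : M ≠ 1 := by
    have := hM.big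
    omega
  have p1 : (LinearMap.mulLeft F u : Module.End F L) ^ M = 1 := by
    rw [mulLeft_pow, mulLeft_eq_one, ← s3, pow_orderOf_eq_one]
  have p2 : (1 : Module.End F L') ^ 1 = 1 := one_pow _
  obtain ⟨B, hB, hsim⟩ := exists_sim hQ (by rw [hι]; norm_num) hs
    (x := (LinearMap.mulLeft F u).prodMap 1) (M := M)
    (by
      intro v
      rw [prodForm_apply, prodForm_apply]
      change Q' (u * v.1) + Q'' v.2 = _
      rw [s5])
    hMo
    (by
      rw [pair_pow, p1, one_pow]
      rfl)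
  refine ⟨B, hB, ?_, ?_⟩
  · exact numEl_of (V := L') (by omega) (by rw [hι]; exact hM) s3 s2 hsim
  · apply hsim.dims
    intro W hW
    obtain ⟨s, hs', t, ht', hst⟩ := pair_dims (S₂ := {d | d ≤ 2}) p1 p2 (Nat.coprime_one_right M)
      (mulLeft_free (ne_one_of_order s3 hM1))
      (irr_case s2 s4 (by
        intro j hj hjl hd
        rw [s3] at hd
        have h1 := hM.prim j hj hjl
        have h2 := Nat.dvd_gcd dvd_rfl hd
        rw [h1] at h2
        exact hM1 (Nat.dvd_one.1 h2)))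
      (by
        intro W _
        rw [Set.mem_ofPred_eq]
        have := Submodule.finrank_le W
        omega) hW
    rw [hst]
    simp only [Set.mem_insert_iff, Set.mem_singleton_iff, Set.mem_ofPred_eq] at hs' ht' ⊢
    omega

theorem ppd_cop {q k r : ℕ} (h : Ppd q k r) {i : ℕ} (hi : 1 ≤ i) (hik : i < k) : r.Coprime (q ^ i - 1) := by
  rw [Nat.Prime.coprime_iff_not_dvd h.prime, h.iff]
  intro hd
  have := Nat.le_of_dvd hi hd
  omega

theorem ppd_half {q a r : ℕ} (ha : 1 ≤ a) (h : Ppd q (2 * a) r) : r ∣ q ^ a + 1 := by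
  have h1 : q ^ (2 * a) - 1 = (q ^ a + 1) * (q ^ a - 1) := by
    have := Nat.sq_sub_sq (q ^ a) 1
    rw [one_pow, ← pow_mul, mul_comm a 2] at this
    exact this
  have h2 := (h.iff (2 * a)).2 dvd_rfl
  rw [h1] at h2
  exact (ppd_cop h ha (by omega)).dvd_of_dvd_mul_right h2

theorem exB {Q : QuadraticForm F (ι → F)} (hQ : Sg Q 5 1) (hι : Fintype.card ι = 10) {r s : ℕ}
    (hr : Ppd (Fintype.card F) 6 r) (hs : Ppd (Fintype.card F) 4 s) :
    ∃ B : GL ι F, B ∈ omegaGL ⇑Q ∧ Odd (orderOf B) ∧ (∃ i, orderOf (B ^ i) = r ∧ Blk 6 (B ^ i)) ∧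
      Dims B {0, 4, 6, 10} := by
  have hrd : r ∣ Fintype.card F ^ 3 + 1 := ppd_half (by norm_num) (show Ppd _ (2 * 3) r from hr)
  have hsd : s ∣ Fintype.card F ^ 2 + 1 := ppd_half (by norm_num) (show Ppd _ (2 * 2) s from hs)
  have hro : Odd r := ppd_odd hr (by norm_num)
  have hso : Odd s := ppd_odd hs (by norm_num)
  have hne : r ≠ s := by
    rintro rfl
    exact absurd ((hr.iff 4).1 ((hs.iff 4).2 dvd_rfl)) (by decide)
  have hc : r.Coprime s := (Nat.coprime_primes hr.prime hs.prime).2 hne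
  obtain ⟨L, _, _, _, Q', u, s1, s2, s3, s4, s5⟩ := exists_negN (F := F) (k := 3) (by norm_num) hrd
  obtain ⟨L', _, _, _, Q'', u', t1, t2, t3, t4, t5⟩ := exists_negN (F := F) (k := 2) (by norm_num) hsd
  have hfL : FiniteDimensional F L := Module.Finite.of_finite
  have hfL' : FiniteDimensional F L' := Module.Finite.of_finite
  have hss := s1.prod t1
  rw [show (-1 : ℤ) * -1 = 1 by norm_num] at hss
  have p1 : (LinearMap.mulLeft F u : Module.End F L) ^ r = 1 := by
    rw [mulLeft_pow, mulLeft_eq_one, ← s3, pow_orderOf_eq_one]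
  have p2 : (LinearMap.mulLeft F u' : Module.End F L') ^ s = 1 := by
    rw [mulLeft_pow, mulLeft_eq_one, ← t3, pow_orderOf_eq_one]
  have hpow : ((LinearMap.mulLeft F u).prodMap (LinearMap.mulLeft F u') : Module.End F (L × L')) ^ (r * s) = 1 := by
    rw [pair_pow, pow_mul, p1, one_pow, mul_comm, pow_mul, p2, one_pow]
    rfl
  obtain ⟨B, hB, hsim⟩ := exists_sim hQ (by rw [hι]; norm_num) hss
    (x := (LinearMap.mulLeft F u).prodMap (LinearMap.mulLeft F u')) (M := r * s)
    (by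
      intro v
      rw [prodForm_apply, prodForm_apply]
      change Q' (u * v.1) + Q'' (u' * v.2) = _
      rw [s5, t5])
    (hro.mul hso) hpow
  refine ⟨B, hB, ?_, ?_, ?_⟩
  · refine Odd.of_dvd_nat (hro.mul hso) ?_
    rw [hsim.orderOf_eq]
    exact orderOf_dvd_of_pow_eq_one hpow
  · obtain ⟨j, hj1, hj2⟩ := exists_pow_left p1 p2 hc
    have h1 := hsim.pow j
    rw [pair_pow, hj1, hj2] at h1
    have ho : orderOf (B ^ j) = r := by
      rw [h1.orderOf_eq]
      have := Fact.mk hr.prime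
      refine (orderOf_eq_prime ?_ ?_)
      · rw [pair_pow, p1, one_pow]
        rfl
      · intro h2
        have h3 := congrArg (fun f : Module.End F (L × L') => (f (1, 0)).1) h2
        have h4 : u * 1 = 1 := h3
        rw [mul_one] at h4
        exact ne_one_of_order s3 hr.prime.one_lt.ne' h4
    refine ⟨j, ho, ⟨?_, ?_, ?_⟩⟩
    · rw [ho, Nat.card_eq_fintype_card]
      exact coprime_q (by norm_num) hrd
    · intro i hi hi6
      rw [ho, Nat.card_eq_fintype_card]
      exact ppd_cop hr hi hi6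
    · rw [h1.rk, range_pair (mulLeft_free (ne_one_of_order s3 hr.prime.one_lt.ne')), s2]
  · apply hsim.dims
    intro W hW
    obtain ⟨s', hs', t', ht', hst⟩ := pair_dims p1 p2 hc (mulLeft_free (ne_one_of_order s3 hr.prime.one_lt.ne'))
      (irr_case s2 s4 (by
        intro j hj hjl hd
        rw [s3] at hd
        exact hr.prime.one_lt.ne' (Nat.Coprime.eq_one_of_dvd (ppd_cop hr hj hjl) hd)))
      (irr_case t2 t4 (by
        intro j hj hjl hd
        rw [t3] at hd
        exact hs.prime.one_lt.ne' (Nat.Coprime.eq_one_of_dvd (ppd_cop hs hj hjl) hd))) hW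
    rw [hst]
    simp only [Set.mem_insert_iff, Set.mem_singleton_iff] at hs' ht' ⊢
    omega

theorem orderOf_dg {K : Type*} [Field K] [Algebra F K] [FiniteDimensional F K] (u : K) :
    orderOf (dg F u) = orderOf u := by
  apply Nat.dvd_antisymm
  · apply orderOf_dvd_of_pow_eq_one
    rw [dg_pow, pow_orderOf_eq_one, dg_one]
  · apply orderOf_dvd_of_pow_eq_one
    have h := pow_orderOf_eq_one (dg F u)
    rw [dg_pow] at h
    have h1 := congrArg (fun f : Module.End F (K × K) => (f (1, 0)).1) h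
    have h2 : u ^ orderOf (dg F u) * 1 = 1 := h1
    rwa [mul_one] at h2

theorem exC {Q : QuadraticForm F (ι → F)} (hQ : Sg Q 5 1) (hι : Fintype.card ι = 10) {t N : ℕ}
    (ht : Ppd (Fintype.card F) 5 t) (htN : t ∣ N) (hN : N ∣ Fintype.card F ^ 5 - 1) (hNo : Odd N) :
    ∃ C : GL ι F, C ∈ omegaGL ⇑Q ∧ orderOf C = N ∧
      (∃ P : Polynomial F, Odd (finrank F (LinearMap.ker (Matrix.toLin'
        (Polynomial.aeval (C : Matrix ι ι F) P))))) ∧ Dims C {d | 5 ∣ d} := by
  have hN0 : N ≠ 0 := fun h => by rw [h] at hNo; exact absurd hNo (by decide)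
  have hN1 : N ≠ 1 := by
    intro h
    rw [h] at htN
    exact ht.prime.one_lt.ne' (Nat.dvd_one.1 htN)
  obtain ⟨K, _, _, _, Q', u, s1, s2, s3, s4, s5⟩ := exists_posN (F := F) (k := 5) (by norm_num) hN
  have hf : FiniteDimensional F K := Module.Finite.of_finite
  obtain ⟨C, hC, hsim⟩ := exists_sim hQ (by rw [hι]; norm_num) s1
    (x := dg F u) (M := N) (s5 u s4) hNo (dg_pow_eq_one s3)
  refine ⟨C, hC, ?_, ⟨minpoly F u, ?_⟩, ?_⟩
  · rw [hsim.orderOf_eq, orderOf_dg, s3]
  · rw [hsim.ker, ker_dg_minpoly (by rw [s2]; decide) s4 (sq_ne_one s3 hNo hN1), s2]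
    decide
  · apply hsim.dims
    intro W hW
    obtain ⟨k, hk⟩ := htN
    have hk0 : k ≠ 0 := fun h => hN0 (by rw [hk, h, mul_zero])
    have hko : orderOf (u ^ k) = t := by
      rw [orderOf_pow_of_dvd hk0 (by rw [s3, hk]; exact dvd_mul_left _ _), s3, hk,
        Nat.mul_div_cancel _ (Nat.pos_of_ne_zero hk0)]
    have hW' := inv_pow hW k
    rw [dg_pow] at hW'
    exact dims_dg hko ht (by norm_num) hW'

end Cfsg.Agent.H383.Cov.Ten
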